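import Cfsg.Agent.H51.Mult
import Cfsg.Agent.H95.StemCover
import Mathlib.RepresentationTheory.Basic
import Mathlib.Logic.Small.Basic
import Mathlib.Algebra.Group.Shrink

/-!
# Products of two commutators in quasisimple groups (S2494): the interface (helper253)

* `TwoComm G` : every element of `G` is a product of two commutators;
* `Row K` : every finite perfect central extension of `K` (in `Type`) has `TwoComm`; `Row.any` : in every universe;
  `Row.congr`, `Row.result`;
* `PD K D` : every nontrivial complex representation of a finite perfect central extension of `K` has degree `≥ D`;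
* `PDk K k D` : the same for irreducible representations, faithful on the kernel, of the perfect central extensions
  with (cyclic) kernel of order `k`.
-/

set_option autoImplicit false

namespace Cfsg.Agent.H253.TC

open Subgroup
open Cfsg.Agent.H51.Mult (PCE)

universe u v w

/-- every element is a product of two commutators -/
def TwoComm (G : Type u) [Group G] : Prop :=
  ∀ g : G, ∃ a b c d : G, (a * b * a⁻¹ * b⁻¹) * (c * d * c⁻¹ * d⁻¹) = g

theorem TwoComm.of_surj {G : Type u} {H : Type v} [Group G] [Group H] (h : TwoComm G) (f : G →* H)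
    (hf : Function.Surjective f) : TwoComm H := by
  intro x
  obtain ⟨g, rfl⟩ := hf x
  obtain ⟨a, b, c, d, e⟩ := h g
  exact ⟨f a, f b, f c, f d, by rw [← e]; simp only [map_mul, map_inv]⟩

theorem TwoComm.congr {G : Type u} {H : Type v} [Group G] [Group H] (h : TwoComm G) (e : G ≃* H) : TwoComm H :=
  h.of_surj e.toMonoidHom e.surjective

/-- every finite perfect central extension of `K` has the property -/
def Row (K : Type v) [Group K] : Prop :=
  ∀ (L : Type) [Group L] [Finite L] (π : L →* K), PCE π → TwoComm L

/-- perfect central extensions can be moved to `Type` -/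
theorem pce_shrink {G : Type u} {K : Type v} [Group G] [Group K] {π : G →* K} (hπ : PCE π) {L : Type w} [Group L]
    (e : L ≃* G) : PCE (π.comp e.toMonoidHom) where
  surj := hπ.surj.comp e.surjective
  cen := by
    intro x hx
    rw [mem_center_iff]
    intro y
    have h1 : e x ∈ π.ker := hx
    have h2 := mem_center_iff.1 (hπ.cen h1) (e y)
    exact e.injective (by rw [map_mul, map_mul]; exact h2)
  perf := by
    have h1 : (commutator L).map e.toMonoidHom = ⊤ := by
      rw [commutator_def, map_commutator, Subgroup.map_top_of_surjective _ e.surjective, ← commutator_def, hπ.perf]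
    rw [eq_top_iff]
    intro x _
    have h2 : e x ∈ (commutator L).map e.toMonoidHom := by rw [h1]; exact mem_top _
    obtain ⟨y, hy, hyx⟩ := h2
    rwa [← e.injective hyx]

theorem exists_small (G : Type u) [Group G] [Finite G] :
    ∃ (L : Type) (_ : Group L) (_ : Finite L), Nonempty (L ≃* G) := by
  have : Small.{0} G := Countable.toSmall G
  exact ⟨Shrink.{0} G, inferInstance, Finite.of_equiv G (Shrink.mulEquiv (α := G)).symm.toEquiv,
    ⟨Shrink.mulEquiv⟩⟩

/-- a row in every universe -/
theorem Row.any {K : Type v} [Group K] (h : Row K) {G : Type u} [Group G] [Finite G] {π : G →* K} (hπ : PCE π) :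
    TwoComm G := by
  obtain ⟨L, _, _, ⟨e⟩⟩ := exists_small G
  exact (h L _ (pce_shrink hπ e)).congr e

theorem Row.congr {K : Type v} {K' : Type w} [Group K] [Group K'] (h : Row K) (e : K ≃* K') : Row K' := by
  intro L _ _ π hπ
  exact h L _ (hπ.congr e.symm)

/-- the statement from a row -/
theorem Row.result {K : Type v} [Group K] (h : Row K) {G : Type u} [Group G] [Finite G] (hG : commutator G = ⊤)
    (e : G ⧸ center G ≃* K) : TwoComm G := by
  refine h.any (π := e.toMonoidHom.comp (QuotientGroup.mk' (center G))) ⟨?_, ?_, hG⟩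
  · exact e.surjective.comp (QuotientGroup.mk'_surjective _)
  · intro x hx
    have h1 : e (x : G ⧸ center G) = 1 := hx
    rw [map_eq_one_iff e e.injective] at h1
    exact (QuotientGroup.eq_one_iff x).1 h1

/-- a row from one extension whose kernel has the order of the Schur multiplier -/
theorem Row.of_univ {K : Type v} [Group K] [Finite K] {A : Type w} [CommGroup A] [Finite A]
    (hA : Cfsg.HasSchurMultiplier K A) {Γ : Type u} [Group Γ] [Finite Γ] {σ : Γ →* K} (hσ : PCE σ)
    (hcard : Nat.card σ.ker = Nat.card A) (h : TwoComm Γ) : Row K := by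
  intro L _ _ π hπ
  obtain ⟨φ, hφ, -⟩ := H95.StemCover.exists_cover hσ.perf_base hA σ hσ.toStem hcard π hπ.toStem
  exact h.of_surj φ hφ

/-! ### degrees of representations of perfect central extensions -/

/-- every nontrivial complex representation of a finite perfect central extension of `K` has degree at least `D` -/
def PD (K : Type v) [Group K] (D : ℕ) : Prop :=
  ∀ (L : Type) [Group L] [Finite L] (π : L →* K), PCE π →
    ∀ (n : ℕ) (ρ : Representation ℂ L (Fin n → ℂ)), (∃ g, ρ g ≠ 1) → D ≤ n

/-- every irreducible complex representation, faithful on the kernel, of a finite perfect central extension of `K` with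
kernel of order `k` has degree at least `D` (trivial representations excluded) -/
def PDk (K : Type v) [Group K] (k D : ℕ) : Prop :=
  ∀ (L : Type) [Group L] [Finite L] (π : L →* K), PCE π → Nat.card π.ker = k →
    ∀ (n : ℕ) (ρ : Representation ℂ L (Fin n → ℂ)), ρ.IsIrreducible → (∃ g, ρ g ≠ 1) →
      (∀ z ∈ π.ker, ρ z = 1 → z = 1) → D ≤ n

theorem PD.mono {K : Type v} [Group K] {D D' : ℕ} (h : PD K D) (hD : D' ≤ D) : PD K D' :=
  fun L _ _ π hπ n ρ hρ => hD.trans (h L π hπ n ρ hρ)

theorem PD.pdk {K : Type v} [Group K] {D : ℕ} (h : PD K D) (k : ℕ) : PDk K k D :=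
  fun L _ _ π hπ _ n ρ _ hρ _ => h L π hπ n ρ hρ

theorem PDk.mono {K : Type v} [Group K] {k D D' : ℕ} (h : PDk K k D) (hD : D' ≤ D) : PDk K k D' :=
  fun L _ _ π hπ hk n ρ hi hρ hf => hD.trans (h L π hπ hk n ρ hi hρ hf)

theorem PD.congr {K : Type v} {K' : Type w} [Group K] [Group K'] {D : ℕ} (h : PD K D) (e : K ≃* K') : PD K' D :=
  fun L _ _ _ hπ n ρ hρ => h L _ (hπ.congr e.symm) n ρ hρ

/-- the bound in every universe and for every space -/
theorem PD.any {K : Type v} [Group K] {D : ℕ} (h : PD K D) {G : Type u} [Group G] [Finite G] {π : G →* K}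
    (hπ : PCE π) {V : Type w} [AddCommGroup V] [Module ℂ V] [FiniteDimensional ℂ V] (ρ : Representation ℂ G V)
    (hρ : ∃ g, ρ g ≠ 1) : D ≤ Module.finrank ℂ V := by
  obtain ⟨L, _, _, ⟨e⟩⟩ := exists_small G
  let b : V ≃ₗ[ℂ] (Fin (Module.finrank ℂ V) → ℂ) := (Module.finBasis ℂ V).equivFun
  let ρ' : Representation ℂ L (Fin (Module.finrank ℂ V) → ℂ) :=
    { toFun := fun x => b.conj (ρ (e x))
      map_one' := by rw [map_one, map_one]; exact b.conj_id
      map_mul' := fun x y => by
        rw [map_mul, map_mul]
        exact b.conj_comp _ _ }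
  refine h L _ (pce_shrink hπ e) _ ρ' ?_
  obtain ⟨g, hg⟩ := hρ
  refine ⟨e.symm g, fun h1 => hg ?_⟩
  have h2 : b.conj (ρ (e (e.symm g))) = 1 := h1
  rw [e.apply_symm_apply] at h2
  apply b.conj.injective
  rw [h2]
  exact b.conj_id.symm

end Cfsg.Agent.H253.TC
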