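import Cfsg.Agent.H253.TwoComm.Sum

/-!
# Products of two commutators: rows from a bound for the centralizer and a bound for the degrees (S2494, helper253)

* `card_centralizer_le` : `|C_L(m)| ≤ |ker π| |C_K(π m)|`;
* `PD.char`, `PDk`-versions: the degrees of the irreducible characters;
* `Row.of_bound` : `μ c ≤ D²`.
-/

set_option autoImplicit false

namespace Cfsg.Agent.H253.TC

open Cfsg Subgroup
open Cfsg.Agent.H51.Mult (PCE)
open Cfsg.Agent.Characters.Core Cfsg.Agent.Characters.Central

universe u v w

theorem card_ker_mul_card_range {G : Type u} {H : Type v} [Group G] [Group H] (f : G →* H) :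
    Nat.card f.ker * Nat.card f.range = Nat.card G := by
  rw [← Nat.card_congr (QuotientGroup.quotientKerEquivRange f).toEquiv, mul_comm]
  exact (Subgroup.card_eq_card_quotient_mul_card_subgroup f.ker).symm

/-- the centralizer in a central extension -/
theorem card_centralizer_le {L : Type u} {K : Type v} [Group L] [Group K] [Finite L] {π : L →* K} (hπ : PCE π)
    (x : L) : Nat.card (centralizer ({x} : Set L)) ≤ Nat.card π.ker * Nat.card (centralizer ({π x} : Set K)) := by
  have hK : Finite K := Finite.of_surjective _ hπ.surj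
  let C := centralizer ({x} : Set L)
  let f : ↥C →* K := π.comp C.subtype
  rw [← card_ker_mul_card_range f]
  refine Nat.mul_le_mul ?_ ?_
  · refine Nat.card_le_card_of_injective (fun y : f.ker => (⟨(y : C), y.2⟩ : π.ker)) ?_
    intro a b hab
    exact Subtype.ext (Subtype.ext (Subtype.mk.inj hab))
  · refine Nat.card_le_card_of_injective (fun y : f.range => (⟨(y : K), ?_⟩ : centralizer ({π x} : Set K))) ?_
    · obtain ⟨z, hz⟩ := y.2
      rw [mem_centralizer_singleton_iff, ← hz]
      show π z * π x = π x * π z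
      rw [← map_mul, ← map_mul, mem_centralizer_singleton_iff.1 z.2]
    · intro a b hab
      exact Subtype.ext (Subtype.mk.inj hab)

/-- an irreducible character which is not trivial belongs to a nontrivial representation -/
theorem exists_ne_one {G : Type u} [Group G] [Finite G] {n : ℕ} {ρ : Representation ℂ G (Fin n → ℂ)}
    (hρ : ρ.IsIrreducible) (h1 : ρ.character ≠ 1) : ∃ g, ρ g ≠ 1 := by
  by_contra hcon
  push Not at hcon
  have := Fintype.ofFinite G
  have hchar : ∀ g, ρ.character g = n := by
    intro g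
    show LinearMap.trace ℂ _ (ρ g) = n
    rw [hcon g, LinearMap.trace_one]
    simp
  have hs := sum_char_mul_char_inv ρ hρ
  simp only [hchar, Finset.sum_const, Finset.card_univ, nsmul_eq_mul, Nat.card_eq_fintype_card] at hs
  have hG : (Fintype.card G : ℂ) ≠ 0 := by exact_mod_cast Fintype.card_ne_zero
  have h2 : ((n * n : ℕ) : ℂ) = ((1 : ℕ) : ℂ) := by
    push_cast
    exact mul_left_cancel₀ hG (by rw [hs, mul_one])
  have h3 : n * n = 1 := by exact_mod_cast h2
  have h4 : n = 1 := Nat.eq_one_of_mul_eq_one_left h3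
  exact h1 (funext fun g => by rw [hchar g, h4]; simp)

/-- the degrees of the nontrivial irreducible characters -/
theorem PD.char {K : Type v} [Group K] {D : ℕ} (h : PD K D) {L : Type} [Group L] [Finite L] {π : L →* K}
    (hπ : PCE π) {χ : L → ℂ} (hχ : IsIrrCharacter L χ) (h1 : χ ≠ 1) : (D : ℝ) ≤ ‖χ 1‖ := by
  obtain ⟨n, ρ, hρ, rfl⟩ := hχ
  have h2 := h L π hπ n ρ (exists_ne_one hρ h1)
  rw [Representation.char_one, Complex.norm_natCast]
  simpa using h2

/-- **Criterion A.** -/
theorem Row.of_bound {K : Type v} [Group K] {c μ D : ℕ} (m : K) (hc : Nat.card (centralizer ({m} : Set K)) ≤ c)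
    (hμ : ∀ (L : Type) [Group L] [Finite L] (π : L →* K), PCE π → Nat.card π.ker ≤ μ) (hD : PD K D) (hD0 : 0 < D)
    (h : μ * c ≤ D ^ 2) : Row K := by
  intro L _ _ π hπ
  obtain ⟨x, rfl⟩ := hπ.surj m
  exact twoComm_of_centralizer x hD0 (fun χ hχ h1 => hD.char hπ hχ h1)
    ((card_centralizer_le hπ x).trans ((Nat.mul_le_mul (hμ _ π hπ) hc).trans h))

/-- Criterion A, the bound for the kernel from the Schur multiplier. -/
theorem Row.of_mult {K : Type v} [Group K] {A : Type w} [CommGroup A] [Finite A] (hA : Cfsg.HasSchurMultiplier K A)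
    {c D : ℕ} (m : K) (hc : Nat.card (centralizer ({m} : Set K)) ≤ c) (hD : PD K D) (hD0 : 0 < D)
    (h : Nat.card A * c ≤ D ^ 2) : Row K :=
  Row.of_bound m hc (fun L _ _ π hπ => Nat.le_of_dvd Nat.card_pos
    (H95.StemCover.card_ker_dvd hA hπ.perf π hπ.surj hπ.cen)) hD hD0 h

end Cfsg.Agent.H253.TC
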