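import Cfsg.Agent.H253.TwoComm.Fused

/-!
# Degree bounds from the normalizer of a subgroup of prime order (S2494, helper253)

* `exists_conj_powers` : `|N(X)| = e |C(X)|`, `X = ⟨x⟩` of prime order: `x` is conjugate to `e` of its powers;
* `PD.of_normalizer`, `PDk.of_normalizer`.
-/

set_option autoImplicit false

namespace Cfsg.Agent.H253.TC

open Cfsg Subgroup
open Cfsg.Agent.H51.Mult (PCE)

universe v

theorem exists_conj_powers {K : Type v} [Group K] [Finite K] {p : ℕ} (hp : p.Prime) {x : K} (hx : orderOf x = p)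
    {e : ℕ} (he : e * Nat.card (centralizer (zpowers x : Set K)) ≤ Nat.card (normalizer (zpowers x : Set K))) :
    ∃ J : Finset ℕ, (∀ j ∈ J, 0 < j ∧ j < p) ∧ (∀ j ∈ J, IsConj x (x ^ j)) ∧ e ≤ J.card := by
  classical
  let J : Finset ℕ := (Finset.range p).filter fun j => 0 < j ∧ IsConj x (x ^ j)
  refine ⟨J, ?_, ?_, ?_⟩
  · intro j hj
    rw [Finset.mem_filter, Finset.mem_range] at hj
    exact ⟨hj.2.1, hj.1⟩
  · intro j hj
    rw [Finset.mem_filter] at hj
    exact hj.2.2
  · have h1 : ∀ g : normalizer (zpowers x : Set K), ∃ j ∈ J, (g : K) * x * (g : K)⁻¹ = x ^ j := by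
      intro g
      have h2 : (g : K) * x * (g : K)⁻¹ ∈ zpowers x :=
        (Subgroup.mem_normalizer_iff.1 g.2 x).1 (mem_zpowers x)
      obtain ⟨i, hi⟩ := mem_powers_iff_mem_zpowers.2 h2
      have hi' : x ^ i = (g : K) * x * (g : K)⁻¹ := hi
      have hi2 : x ^ (i % p) = (g : K) * x * (g : K)⁻¹ := by rw [← hi', ← hx, pow_mod_orderOf]
      refine ⟨i % p, ?_, hi2.symm⟩
      rw [Finset.mem_filter, Finset.mem_range]
      refine ⟨Nat.mod_lt _ hp.pos, Nat.pos_of_ne_zero fun h0 => ?_, isConj_iff.2 ⟨g, hi2.symm⟩⟩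
      rw [h0, pow_zero] at hi2
      have h3 : x = 1 := by
        have h4 : (g : K) * x = g := mul_inv_eq_one.1 hi2.symm
        exact mul_eq_left.1 h4
      rw [h3, orderOf_one] at hx
      exact hp.one_lt.ne hx
    choose f hfJ hf using h1
    have hC : ∀ g g' : normalizer (zpowers x : Set K), f g = f g' →
        (g' : K)⁻¹ * (g : K) ∈ centralizer (zpowers x : Set K) := by
      intro g g' hgg
      have e1 := hf g
      rw [hgg, ← hf g'] at e1
      have e2 : ((g' : K)⁻¹ * g) * x * ((g' : K)⁻¹ * g)⁻¹ = x := by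
        calc ((g' : K)⁻¹ * g) * x * ((g' : K)⁻¹ * g)⁻¹ = (g' : K)⁻¹ * (g * x * (g : K)⁻¹) * g' := by group
          _ = (g' : K)⁻¹ * (g' * x * (g' : K)⁻¹) * g' := by rw [e1]
          _ = x := by group
      rw [mem_centralizer_iff]
      intro y hy
      obtain ⟨i, rfl⟩ := mem_zpowers_iff.1 hy
      have e3 : Commute x ((g' : K)⁻¹ * g) := (mul_inv_eq_iff_eq_mul.1 e2).symm
      exact (e3.zpow_left i)
    let r : ℕ → normalizer (zpowers x : Set K) := fun j => if h : ∃ g, f g = j then h.choose else 1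
    have hr : ∀ g, f (r (f g)) = f g := by
      intro g
      have h : ∃ g', f g' = f g := ⟨g, rfl⟩
      show f (if h : ∃ g', f g' = f g then h.choose else 1) = f g
      rw [dif_pos h]
      exact h.choose_spec
    let F : normalizer (zpowers x : Set K) → J × centralizer (zpowers x : Set K) := fun g =>
      (⟨f g, hfJ g⟩, ⟨(r (f g) : K)⁻¹ * (g : K), hC _ _ (hr g).symm⟩)
    have hF : Function.Injective F := by
      intro g g' h
      have h1 : f g = f g' := congrArg (fun t => (t.1 : ℕ)) h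
      have h2 : (r (f g) : K)⁻¹ * (g : K) = (r (f g') : K)⁻¹ * (g' : K) := congrArg (fun t => (t.2 : K)) h
      rw [h1] at h2
      exact Subtype.ext (mul_left_cancel h2)
    have h2 := Nat.card_le_card_of_injective F hF
    rw [Nat.card_prod, Nat.card_eq_fintype_card (α := J), Fintype.card_coe] at h2
    exact Nat.le_of_mul_le_mul_right (he.trans h2) Nat.card_pos

section PDs

variable {K : Type v} [Group K] [IsSimpleGroup K] [Finite K]

theorem PD.of_normalizer {p : ℕ} (hp : p.Prime)
    (hcop : ∀ (L : Type) [Group L] [Finite L] (π : L →* K), PCE π → ¬ p ∣ Nat.card π.ker) {x : K} (hx : orderOf x = p)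
    {e : ℕ} (he : e * Nat.card (centralizer (zpowers x : Set K)) ≤ Nat.card (normalizer (zpowers x : Set K))) :
    PD K e := by
  obtain ⟨J, h1, h2, h3⟩ := exists_conj_powers hp hx he
  exact (PD.of_pow hp hcop hx J h1 h2).mono h3

theorem PDk.of_normalizer {p : ℕ} (hp : p.Prime) {k : ℕ} (hk : ¬ p ∣ k) {x : K} (hx : orderOf x = p)
    {e : ℕ} (he : e * Nat.card (centralizer (zpowers x : Set K)) ≤ Nat.card (normalizer (zpowers x : Set K))) :
    PDk K k e := by
  obtain ⟨J, h1, h2, h3⟩ := exists_conj_powers hp hx he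
  exact (PDk.of_pow hp hk hx J h1 h2).mono h3

end PDs

/-- the condition on the kernels, from the Schur multiplier -/
theorem not_dvd_ker {K : Type v} [Group K] {A : Type*} [CommGroup A] [Finite A] (hA : Cfsg.HasSchurMultiplier K A)
    {p : ℕ} (hp : ¬ p ∣ Nat.card A) (L : Type) [Group L] [Finite L] (π : L →* K) (hπ : PCE π) :
    ¬ p ∣ Nat.card π.ker :=
  fun h => hp (h.trans (H95.StemCover.card_ker_dvd hA hπ.perf π hπ.surj hπ.cen))

end Cfsg.Agent.H253.TC
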