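import Cfsg.Agent.H253.TwoComm.Feit
import Cfsg.Agent.H253.TwoComm.Norm
import Cfsg.Agent.H253.TwoComm.Crit
import Cfsg.Agent.S0243

/-!
# Rows for single groups (S2494, helper253)

* `not_psl` : a group whose order is not that of `PSL(2, p)`;
* `PD.of_card` : `p` divides `|K|` once, `K` simple: degrees `≥ (p + 1) / 2`;
* `Row.of_card` : the row of a simple group from its order, its (cyclic) Schur multiplier, one prime dividing the order
  once, and one element with small centralizer.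
-/

set_option autoImplicit false

namespace Cfsg.Agent.H253.TC

open Cfsg Subgroup
open Cfsg.Agent.H51.Mult (PCE)

universe u v w

theorem card_psl2 {p : ℕ} [Fact p.Prime] (hp2 : p ≠ 2) :
    2 * Nat.card (Matrix.ProjectiveSpecialLinearGroup (Fin 2) (ZMod p)) = p * (p ^ 2 - 1) := by
  have hp : p.Prime := Fact.out
  have h := S0243.result (F := ZMod p) (ZMod.card p) 2 le_rfl
  rw [Fin.prod_univ_two] at h
  have hodd : Odd p := hp.odd_of_ne_two hp2
  have hp1 : 1 < p := hp.one_lt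
  have hg : Nat.gcd 2 (p - 1) = 2 := by
    apply Nat.gcd_eq_left
    obtain ⟨k, hk⟩ := hodd
    exact ⟨k, by omega⟩
  rw [hg] at h
  have e : p ^ 2 - p = p * (p - 1) := by rw [Nat.mul_sub, mul_one, sq]
  simp only [Fin.val_zero, pow_zero, Fin.val_one, pow_one] at h
  rw [e] at h
  apply Nat.eq_of_mul_eq_mul_left (show 0 < p - 1 by omega)
  calc (p - 1) * (2 * Nat.card (Matrix.ProjectiveSpecialLinearGroup (Fin 2) (ZMod p)))
      = 2 * ((p - 1) * Nat.card (Matrix.ProjectiveSpecialLinearGroup (Fin 2) (ZMod p))) := by ring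
    _ = _ := h
    _ = _ := by ring

theorem not_psl {K : Type v} [Group K] {n p : ℕ} (hn : Nat.card K = n) (hp : p.Prime) (hp2 : p ≠ 2)
    (h : 2 * n ≠ p * (p ^ 2 - 1)) : ¬ Nonempty (K ≃* Matrix.ProjectiveSpecialLinearGroup (Fin 2) (ZMod p)) := by
  rintro ⟨e⟩
  have := Fact.mk hp
  apply h
  rw [← card_psl2 hp2, ← hn, Nat.card_congr e.toEquiv]

theorem not_comm_of_card {K : Type v} [Group K] [IsSimpleGroup K] {n : ℕ} (hn : Nat.card K = n) (h0 : n ≠ 0)
    {p : ℕ} (hp : p.Prime) (h1 : p ∣ n) (h2 : n ≠ p) : ¬ ∀ a b : K, a * b = b * a := by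
  intro h
  have hfin : Finite K := Nat.finite_of_card_ne_zero (hn.symm ▸ h0)
  let _ : CommGroup K := { (inferInstance : Group K) with mul_comm := h }
  have h3 : (Nat.card K).Prime := IsSimpleGroup.prime_card
  rw [hn] at h3
  exact h2 ((Nat.prime_dvd_prime_iff_eq hp h3).1 h1).symm

/-- an element whose centralizer consists of its powers -/
theorem card_le_of_pow {G : Type v} [Group G] {x : G} {n : ℕ} (hx : orderOf x = n) (hn : 0 < n)
    (h : ∀ c : G, c * x = x * c → ∃ i : ℕ, c = x ^ i) : Nat.card (centralizer ({x} : Set G)) ≤ n := by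
  have h1 : centralizer ({x} : Set G) ≤ zpowers x := by
    intro c hc
    obtain ⟨i, rfl⟩ := h c (mem_centralizer_singleton_iff.1 hc)
    exact pow_mem (mem_zpowers x) i
  have h2 : Nat.card (zpowers x) = n := by rw [Nat.card_zpowers, hx]
  have : Finite (zpowers x) := Nat.finite_of_card_ne_zero (by omega)
  rw [← h2]
  exact Nat.card_le_card_of_injective (Subgroup.inclusion h1) (Subgroup.inclusion_injective h1)

/-- centralizers under an injective homomorphism -/
theorem card_cent_le_of_inj {G : Type u} {H : Type v} [Group G] [Group H] [Finite H] (f : G →* H)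
    (hf : Function.Injective f) (x : G) :
    Nat.card (centralizer ({x} : Set G)) ≤ Nat.card (centralizer ({f x} : Set H)) := by
  let F : centralizer ({x} : Set G) → centralizer ({f x} : Set H) := fun c => ⟨f c, by
    have h := mem_centralizer_singleton_iff.1 c.2
    rw [mem_centralizer_singleton_iff, ← map_mul, h, map_mul]⟩
  refine Nat.card_le_card_of_injective F fun a b hab => Subtype.ext (hf ?_)
  exact congrArg Subtype.val hab

/-- centralizers of conjugate elements -/
theorem card_cent_conj {G : Type v} [Group G] {x y : G} (h : IsConj x y) :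
    Nat.card (centralizer ({x} : Set G)) = Nat.card (centralizer ({y} : Set G)) := by
  obtain ⟨g, rfl⟩ := isConj_iff.1 h
  refine Nat.card_congr ⟨fun u => ⟨g * u * g⁻¹, ?_⟩, fun u => ⟨g⁻¹ * u * g, ?_⟩, fun u => ?_, fun u => ?_⟩
  · have := mem_centralizer_singleton_iff.1 u.2
    rw [mem_centralizer_singleton_iff]
    calc g * u * g⁻¹ * (g * x * g⁻¹) = g * (u * x) * g⁻¹ := by group
      _ = g * (x * u) * g⁻¹ := by rw [this]
      _ = _ := by group
  · have := mem_centralizer_singleton_iff.1 u.2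
    rw [mem_centralizer_singleton_iff]
    calc g⁻¹ * u * g * x = g⁻¹ * (u * (g * x * g⁻¹)) * g := by group
      _ = g⁻¹ * (g * x * g⁻¹ * u) * g := by rw [this]
      _ = _ := by group
  · exact Subtype.ext (by group)
  · exact Subtype.ext (by group)

section

variable {K : Type v} [Group K] [IsSimpleGroup K] {n μ : ℕ}

theorem PD.of_card (hn : Nat.card K = n) (h0 : n ≠ 0) (hμ : 0 < μ) (hA : Cfsg.HasCyclicSchurMultiplier K μ) {p : ℕ}
    (hp : p.Prime) (hp2 : p ≠ 2) (h1 : p ∣ n) (h2 : ¬ p ^ 2 ∣ n) (h3 : n ≠ p) (h4 : 2 * n ≠ p * (p ^ 2 - 1))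
    (h5 : ¬ p ∣ μ) {D : ℕ} (hD : 2 * D ≤ p + 1) : PD K D := by
  have : NeZero μ := ⟨hμ.ne'⟩
  have hfin : Finite K := Nat.finite_of_card_ne_zero (hn.symm ▸ h0)
  have hc : Nat.card (Multiplicative (ZMod μ)) = μ := by
    rw [Nat.card_congr Multiplicative.toAdd, Nat.card_zmod]
  exact PD.of_prime (not_comm_of_card hn h0 hp h1 h3) hp (not_dvd_ker hA (hc.symm ▸ h5)) (hn.symm ▸ h1)
    (hn.symm ▸ h2) (not_psl hn hp hp2 h4) hD

omit [IsSimpleGroup K] in
theorem Row.of_pd (hn : Nat.card K = n) (h0 : n ≠ 0) (hμ : 0 < μ) (hA : Cfsg.HasCyclicSchurMultiplier K μ) {D : ℕ}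
    (hD : PD K D) (hD0 : 0 < D) {c : ℕ} (m : K) (hc : Nat.card (centralizer ({m} : Set K)) ≤ c)
    (h : μ * c ≤ D ^ 2) : Row K := by
  have : NeZero μ := ⟨hμ.ne'⟩
  have hfin : Finite K := Nat.finite_of_card_ne_zero (hn.symm ▸ h0)
  have hA' : Nat.card (Multiplicative (ZMod μ)) = μ := by
    rw [Nat.card_congr Multiplicative.toAdd, Nat.card_zmod]
  exact Row.of_mult hA m hc hD hD0 (by rw [hA']; exact h)

/-- the row of a simple group -/
theorem Row.of_card (hn : Nat.card K = n) (h0 : n ≠ 0) (hμ : 0 < μ) (hA : Cfsg.HasCyclicSchurMultiplier K μ) {p : ℕ}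
    (hp : p.Prime) (hp2 : p ≠ 2) (h1 : p ∣ n) (h2 : ¬ p ^ 2 ∣ n) (h3 : n ≠ p) (h4 : 2 * n ≠ p * (p ^ 2 - 1))
    (h5 : ¬ p ∣ μ) {c : ℕ} (m : K) (hc : Nat.card (centralizer ({m} : Set K)) ≤ c)
    (h : μ * c ≤ ((p + 1) / 2) ^ 2) : Row K :=
  Row.of_pd hn h0 hμ hA (PD.of_card (D := (p + 1) / 2) hn h0 hμ hA hp hp2 h1 h2 h3 h4 h5 (by omega))
    (by have := hp.two_le; omega) m hc h

end

end Cfsg.Agent.H253.TC
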