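import Cfsg.Agent.H253.TwoComm.Base
import Cfsg.Agent.H487.SchurPerfect
import Cfsg.Agent.Characters.Core

/-!
# Lower bounds for the degrees of perfect central extensions (S2494, helper253)

* `ker_le` : the kernel of a nontrivial representation of a perfect central extension of a simple group;
* `PD.of_hom` : monotonicity in `K`;
* `PD.of_univ` : the bound for a universal cover gives the bound for all;
* `PD.of_fused` : a subgroup `A` of order prime to the multiplier, whose nonidentity elements are conjugate in `K`: the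
  degrees are at least `|A| - 1`;
-/

set_option autoImplicit false

namespace Cfsg.Agent.H253.TC

open Cfsg Subgroup
open Cfsg.Agent.H51.Mult (PCE)
open scoped commutatorElement

universe u v w

/-- the commutator subgroup of a central extension of a perfect group -/
theorem pce_commutator {P : Type u} {L : Type v} [Group P] [Group L] (hL : commutator L = ⊤) {τ : P →* L}
    (hs : Function.Surjective τ) (hc : τ.ker ≤ center P) : PCE (τ.comp (commutator P).subtype) := by
  obtain ⟨h1, h2⟩ := H487.perfect_commutator (π := τ) ⟨hL⟩ hs hc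
  refine ⟨h2, ?_, h1.commutator_eq_top⟩
  intro x hx
  have h3 : (x : P) ∈ τ.ker := hx
  rw [mem_center_iff]
  intro y
  exact Subtype.ext (mem_center_iff.1 (hc h3) y)

section Ker

variable {L : Type u} {K : Type v} [Group L] [Group K] [IsSimpleGroup K] {π : L →* K}

/-- a normal subgroup of a perfect central extension of a simple group is everything or lies in the kernel -/
theorem normal_le (hπ : PCE π) (N : Subgroup L) [hN : N.Normal] : N = ⊤ ∨ N ≤ π.ker := by
  have h1 : (N.map π).Normal := hN.map π hπ.surj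
  rcases h1.eq_bot_or_eq_top with h2 | h2
  · right
    rwa [Subgroup.map_eq_bot_iff] at h2
  · left
    have h3 : N ⊔ π.ker = ⊤ := by
      have h4 : (N.map π).comap π = ⊤ := by rw [h2, comap_top]
      rw [← h4, comap_map_eq]
    have h5 : commutator L ≤ N := by
      rw [_root_.commutator_def, ← h3]
      rw [commutator_le]
      intro a ha b hb
      obtain ⟨n, hn, z, hz, rfl⟩ := mem_sup_of_normal_left.1 ha
      obtain ⟨n', hn', z', hz', rfl⟩ := mem_sup_of_normal_left.1 hb
      have c1 := mem_center_iff.1 (hπ.cen hz)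
      have c2 := mem_center_iff.1 (hπ.cen hz')
      have e : ⁅n * z, n' * z'⁆ = ⁅n, n'⁆ := by
        rw [commutatorElement_def, commutatorElement_def, mul_inv_rev, mul_inv_rev]
        calc n * z * (n' * z') * (z⁻¹ * n⁻¹) * (z'⁻¹ * n'⁻¹)
            = n * (z * (n' * z')) * z⁻¹ * n⁻¹ * z'⁻¹ * n'⁻¹ := by group
          _ = n * ((n' * z') * z) * z⁻¹ * n⁻¹ * z'⁻¹ * n'⁻¹ := by rw [c1]
          _ = n * n' * (z' * n⁻¹) * z'⁻¹ * n'⁻¹ := by group
          _ = n * n' * (n⁻¹ * z') * z'⁻¹ * n'⁻¹ := by rw [c2]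
          _ = n * n' * n⁻¹ * n'⁻¹ := by group
      rw [e, commutatorElement_def]
      exact mul_mem (mul_mem (mul_mem hn hn') (inv_mem hn)) (inv_mem hn')
    rw [hπ.perf] at h5
    exact top_le_iff.1 h5

/-- the kernel of a nontrivial representation lies in the kernel of the extension -/
theorem ker_le (hπ : PCE π) {V : Type w} [AddCommGroup V] [Module ℂ V] (ρ : Representation ℂ L V)
    (hρ : ∃ g, ρ g ≠ 1) {g : L} (hg : ρ g = 1) : π g = 1 := by
  let N : Subgroup L :=
    { carrier := {x | ρ x = 1}
      mul_mem' := fun {a b} ha hb => by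
        show ρ (a * b) = 1
        rw [map_mul, show ρ a = 1 from ha, show ρ b = 1 from hb, one_mul]
      one_mem' := map_one ρ
      inv_mem' := fun {a} ha => by
        show ρ a⁻¹ = 1
        have h1 : ρ (a⁻¹ * a) = 1 := by rw [inv_mul_cancel, map_one]
        rwa [map_mul, show ρ a = 1 from ha, mul_one] at h1 }
  have hN : N.Normal := ⟨fun n hn x => by
    show ρ (x * n * x⁻¹) = 1
    rw [map_mul, map_mul, show ρ n = 1 from hn, mul_one, ← map_mul, mul_inv_cancel, map_one]⟩
  rcases normal_le hπ N with h | h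
  · obtain ⟨x, hx⟩ := hρ
    exact absurd (show x ∈ N by rw [h]; exact mem_top _) hx
  · exact h hg

end Ker

/-- **Monotonicity.** `L` finite perfect with a nontrivial homomorphism to the simple group `K`. -/
theorem PD.of_hom {K : Type v} [Group K] [IsSimpleGroup K] {L : Type w} [Group L] [Finite L] (hL : commutator L = ⊤)
    (f : L →* K) (hf : ∃ x, f x ≠ 1) {D : ℕ} (h : PD L D) : PD K D := by
  intro G _ _ π hπ n ρ hρ
  -- the fibre product
  let P : Subgroup (G × L) := (π.comp (MonoidHom.fst G L)).eqLocus (f.comp (MonoidHom.snd G L))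
  have hP : ∀ x : G × L, x ∈ P ↔ π x.1 = f x.2 := fun x => Iff.rfl
  let τ : ↥P →* L := (MonoidHom.snd G L).comp P.subtype
  have hτs : Function.Surjective τ := by
    intro l
    obtain ⟨g, hg⟩ := hπ.surj (f l)
    exact ⟨⟨(g, l), hg⟩, rfl⟩
  have hτc : τ.ker ≤ center P := by
    intro x hx
    have h1 : x.1.2 = 1 := hx
    have h2 : x.1.1 ∈ π.ker := by
      rw [MonoidHom.mem_ker, (hP _).1 x.2, h1, map_one]
    rw [mem_center_iff]
    intro y
    refine Subtype.ext (Prod.ext (mem_center_iff.1 (hπ.cen h2) _) ?_)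
    show y.1.2 * x.1.2 = x.1.2 * y.1.2
    rw [h1, mul_one, one_mul]
  have hpce := pce_commutator hL hτs hτc
  let ρ' : Representation ℂ ↥(commutator P) (Fin n → ℂ) :=
    (ρ : G →* _).comp ((MonoidHom.fst G L).comp (P.subtype.comp (commutator P).subtype))
  have h1 := h.any hpce ρ' ?_
  · simpa using h1
  · by_contra hcon
    push Not at hcon
    obtain ⟨l, hl⟩ := hf
    obtain ⟨x, hx⟩ := hpce.surj l
    have h2 : ρ (x : P).1.1 = 1 := hcon x
    have h3 := ker_le hπ ρ hρ h2
    apply hl
    rw [← hx]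
    exact ((hP _).1 (x : P).2).symm.trans h3

/-- the bound for a universal cover -/
theorem PD.of_univ {K : Type v} [Group K] [Finite K] {A : Type w} [CommGroup A] [Finite A]
    (hA : Cfsg.HasSchurMultiplier K A) {Γ : Type u} [Group Γ] [Finite Γ] {σ : Γ →* K} (hσ : PCE σ)
    (hcard : Nat.card σ.ker = Nat.card A) {D : ℕ}
    (h : ∀ (n : ℕ) (ρ : Representation ℂ Γ (Fin n → ℂ)), (∃ g, ρ g ≠ 1) → D ≤ n) : PD K D := by
  intro L _ _ π hπ n ρ hρ
  obtain ⟨φ, hφ, -⟩ := H95.StemCover.exists_cover hσ.perf_base hA σ hσ.toStem hcard π hπ.toStem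
  refine h n ((ρ : L →* _).comp φ) ?_
  obtain ⟨g, hg⟩ := hρ
  obtain ⟨x, rfl⟩ := hφ g
  exact ⟨x, hg⟩

end Cfsg.Agent.H253.TC
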