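import Cfsg.Agent.H253.TwoComm.Deg
import Cfsg.Agent.H607.FromChar
import Cfsg.Agent.Characters.Values

/-!
# Degree bounds from a prime dividing the order once (S2494, helper253)

* `deg_of_prime` : `K` simple, `p` divides `|K|` exactly once and does not divide the order of the kernel, `K` is not
  `PSL(2, p)`: every nontrivial representation of the extension has degree at least `(p + 1) / 2`;
* `PD.of_prime`, `PDk.of_prime`.
-/

set_option autoImplicit false

namespace Cfsg.Agent.H253.TC

open Cfsg Subgroup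
open Cfsg.Agent.H51.Mult (PCE)
open Cfsg.Agent.Characters.Core

universe u v w

theorem deg_of_prime {L : Type u} {K : Type v} [Group L] [Finite L] [Group K] [IsSimpleGroup K] {π : L →* K}
    (hna : ¬ ∀ a b : K, a * b = b * a) (hπ : PCE π) {p : ℕ} (hp : p.Prime) (hcop : ¬ p ∣ Nat.card π.ker)
    (hdvd : p ∣ Nat.card K) (hsq : ¬ p ^ 2 ∣ Nat.card K)
    (hK : ¬ Nonempty (K ≃* Matrix.ProjectiveSpecialLinearGroup (Fin 2) (ZMod p))) {n : ℕ}
    (ρ : Representation ℂ L (Fin n → ℂ)) (hρ : ∃ g, ρ g ≠ 1) : p + 1 ≤ 2 * n := by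
  classical
  have hKfin : Finite K := Finite.of_surjective _ hπ.surj
  -- the image
  let U := Module.End ℂ (Fin n → ℂ)
  let f : L →* Uˣ := (ρ : L →* U).toHomUnits
  have hf : ∀ g, ((f g : Uˣ) : U) = ρ g := fun g => rfl
  let M := f.range
  have hkf : ∀ g, f g = 1 → π g = 1 := fun g hg => ker_le hπ ρ hρ (by rw [← hf, hg]; rfl)
  -- the map to `K`
  let φ : L →* M := f.rangeRestrict
  have hφs : Function.Surjective φ := f.rangeRestrict_surjective
  have hφk : φ.ker ≤ π.ker := by
    intro g hg
    rw [MonoidHom.mem_ker] at hg ⊢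
    exact hkf g (congrArg Subtype.val hg)
  obtain ⟨ψ, hψ⟩ : ∃ ψ : M →* K, ∀ g, ψ (φ g) = π g := by
    refine ⟨(MonoidHom.liftOfSurjective φ hφs ⟨π, hφk⟩), fun g => ?_⟩
    exact MonoidHom.liftOfRightInverse_comp_apply φ _ _ ⟨π, hφk⟩ g
  have hMfin : Finite M := Finite.of_surjective _ hφs
  have hψs : Function.Surjective ψ := fun x => by
    obtain ⟨g, rfl⟩ := hπ.surj x
    exact ⟨φ g, hψ g⟩
  have hψk : ψ.ker ≤ center M := by
    intro x hx
    obtain ⟨g, rfl⟩ := hφs x
    have h1 : g ∈ π.ker := by rw [MonoidHom.mem_ker, ← hψ]; exact hx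
    rw [mem_center_iff]
    intro y
    obtain ⟨h, rfl⟩ := hφs y
    rw [← map_mul, ← map_mul, mem_center_iff.1 (hπ.cen h1) h]
  have hψp : commutator M = ⊤ := by
    rw [_root_.commutator_def, ← Subgroup.map_top_of_surjective φ hφs, ← Subgroup.map_commutator,
      ← _root_.commutator_def, hπ.perf]
  have hψ' : PCE ψ := ⟨hψs, hψk, hψp⟩
  -- orders
  have hkd : Nat.card ψ.ker ∣ Nat.card π.ker := by
    have h1 : ψ.ker = π.ker.map φ := by
      ext x
      constructor
      · intro hx
        obtain ⟨g, rfl⟩ := hφs x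
        exact ⟨g, by
          show π g = 1
          rw [← hψ]; exact hx, rfl⟩
      · rintro ⟨g, hg, rfl⟩
        show ψ (φ g) = 1
        rw [hψ]; exact hg
    rw [h1]
    exact card_map_dvd (π.ker) φ
  have hcM : Nat.card M = Nat.card ψ.ker * Nat.card K := by
    rw [← card_mul_index ψ.ker, index_ker, MonoidHom.range_eq_top.2 hψs, Nat.card_congr topEquiv.toEquiv]
  have hpk : ¬ p ∣ Nat.card ψ.ker := fun h => hcop (h.trans hkd)
  have hpM : p ∣ Nat.card M := hcM ▸ (hdvd.mul_left _)
  have hpM2 : ¬ p ^ 2 ∣ Nat.card M := by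
    rw [hcM]
    intro h
    exact hsq ((Nat.Coprime.pow_left 2 ((Nat.Prime.coprime_iff_not_dvd hp).2 hpk)).dvd_of_dvd_mul_left h)
  have hnn : ∀ H : Subgroup M, H.Normal → Nat.card H ≠ p := by
    intro H hH hc
    rcases normal_le hψ' H with h | h
    · have h1 : Nat.card M = p := by rw [← hc, h, Nat.card_congr topEquiv.toEquiv]
      have h2 : Nat.card K = p := by
        have h3 : Nat.card K ∣ p := by rw [← h1, hcM]; exact Dvd.intro_left _ rfl
        rcases (Nat.dvd_prime hp).1 h3 with h4 | h4
        · rw [h4] at hdvd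
          exact absurd (Nat.le_of_dvd one_pos hdvd) (not_le.2 hp.one_lt)
        · exact h4
      have := Fact.mk hp
      have hcyc := isCyclic_of_prime_card h2
      exact hna fun a b => (IsCyclic.commGroup (α := K)).mul_comm a b
    · have h1 := card_dvd_of_le h
      rw [hc] at h1
      exact hpk h1
  -- the character
  let τ : Representation ℂ M (Fin n → ℂ) := (Units.coeHom U).comp M.subtype
  have hτ : ∀ x : M, τ x = ((x : Uˣ) : U) := fun x => rfl
  have hchar : τ.character 1 = n := by rw [Representation.char_one]; simp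
  have hdeg : Cfsg.charDegree τ.character = n := by
    unfold charDegree
    rw [hchar, Complex.natCast_re, Nat.floor_natCast]
  have hfaith : ∀ g : M, τ.character g = τ.character 1 → g = 1 := by
    intro g hg
    rw [Representation.char_one] at hg
    rw [Cfsg.Agent.Characters.Values.character_eq_finrank_iff] at hg
    exact Subtype.ext (Units.ext hg)
  by_contra hlt
  have h2n : 2 * Cfsg.charDegree τ.character < p := by
    rw [hdeg]
    have hp2 := hp.two_le
    rcases Nat.lt_or_ge (2 * n) p with h | h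
    · exact h
    · -- `2 n = p`, `p = 2`
      have h3 : 2 * n = p := by omega
      have h4 : p = 2 := ((Nat.prime_dvd_prime_iff_eq Nat.prime_two hp).1 ⟨n, h3.symm⟩).symm
      have h5 : n = 1 := by omega
      -- degree one: the group is perfect
      exfalso
      obtain ⟨g, hg⟩ := hρ
      have hcomm : ∀ a b : U, a * b = b * a := by
        subst h5
        intro a b
        apply (LinearMap.toMatrix' (R := ℂ) (m := Fin 1) (n := Fin 1)).injective
        rw [show a * b = a.comp b from rfl, show b * a = b.comp a from rfl, LinearMap.toMatrix'_comp,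
          LinearMap.toMatrix'_comp]
        ext i j
        simp only [Matrix.mul_apply, Finset.univ_unique, Finset.sum_singleton]
        have hi := Subsingleton.elim i (default : Fin 1)
        have hj := Subsingleton.elim j (default : Fin 1)
        rw [hi, hj, mul_comm]
      have h6 : commutator L ≤ f.ker := by
        rw [_root_.commutator_def, commutator_le]
        intro a _ b _
        rw [MonoidHom.mem_ker, map_commutatorElement, commutatorElement_eq_one_iff_mul_comm]
        exact Units.ext (hcomm _ _)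
      have h7 : g ∈ f.ker := h6 (by rw [hπ.perf]; exact mem_top _)
      apply hg
      rw [← hf, MonoidHom.mem_ker.1 h7]
      rfl
  obtain ⟨-, ⟨e⟩⟩ := H607.FromChar.main p hp hpM hpM2 hnn τ.character ⟨n, τ, rfl⟩ hfaith h2n
  -- the center of `M` is the kernel
  have hcen : center M = ψ.ker := by
    refine le_antisymm ?_ hψk
    rcases normal_le hψ' (center M) with h | h
    · exfalso
      apply hna
      intro a b
      obtain ⟨x, rfl⟩ := hψs a
      obtain ⟨y, rfl⟩ := hψs b
      have h1 : y ∈ center M := by rw [h]; exact mem_top _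
      rw [← map_mul, ← map_mul, mem_center_iff.1 h1 x]
    · exact h
  apply hK
  have e1 : M ⧸ center M ≃* M ⧸ ψ.ker := QuotientGroup.quotientMulEquivOfEq hcen
  exact ⟨((QuotientGroup.quotientKerEquivOfSurjective ψ hψs).symm.trans e1.symm).trans e⟩

section PDs

variable {K : Type v} [Group K] [IsSimpleGroup K]

theorem PD.of_prime (hna : ¬ ∀ a b : K, a * b = b * a) {p : ℕ} (hp : p.Prime)
    (hcop : ∀ (L : Type) [Group L] [Finite L] (π : L →* K), PCE π → ¬ p ∣ Nat.card π.ker)
    (hdvd : p ∣ Nat.card K) (hsq : ¬ p ^ 2 ∣ Nat.card K)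
    (hK : ¬ Nonempty (K ≃* Matrix.ProjectiveSpecialLinearGroup (Fin 2) (ZMod p))) {D : ℕ} (hD : 2 * D ≤ p + 1) :
    PD K D := by
  intro L _ _ π hπ n ρ hρ
  have := deg_of_prime hna hπ hp (hcop L π hπ) hdvd hsq hK ρ hρ
  omega

theorem PDk.of_prime (hna : ¬ ∀ a b : K, a * b = b * a) {p : ℕ} (hp : p.Prime) {k : ℕ} (hk : ¬ p ∣ k)
    (hdvd : p ∣ Nat.card K) (hsq : ¬ p ^ 2 ∣ Nat.card K)
    (hK : ¬ Nonempty (K ≃* Matrix.ProjectiveSpecialLinearGroup (Fin 2) (ZMod p))) {D : ℕ} (hD : 2 * D ≤ p + 1) :
    PDk K k D := by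
  intro L _ _ π hπ hk' n ρ _ hρ _
  have := deg_of_prime hna hπ hp (hk'.symm ▸ hk) hdvd hsq hK ρ hρ
  omega

end PDs

end Cfsg.Agent.H253.TC
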