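import Cfsg.Agent.H253.TwoComm.Deg
import Cfsg.Agent.Characters.Linear
import Cfsg.Agent.Characters.Central
import Cfsg.Agent.Characters.Values
import Mathlib.GroupTheory.FiniteAbelian.Duality
import Mathlib.GroupTheory.Sylow

/-!
# Lower bounds for the degrees from fused subgroups (S2494, helper253)

* `deg_const` : a character of `B` which is constant on `B ∖ 1`, but not on `B`, has degree at least `|B| - 1`, if `B` has
  a nontrivial linear character;
* `deg_pow` : the cyclic case, with partial fusion;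
* `PD.of_fused`, `PDk.of_fused` : `B` a `p`-subgroup of `K`, all nonidentity elements conjugate in `K`;
* `PD.of_pow`, `PDk.of_pow` : `x` of prime order, conjugate to `x ^ j` for the `j ∈ J`;
* `PD.of_normalizer` : `|N(X)| = e |C(X)|`.
-/

set_option autoImplicit false
set_option linter.unusedSectionVars false

namespace Cfsg.Agent.H253.TC

open Cfsg Subgroup
open Cfsg.Agent.H51.Mult (PCE)
open Cfsg.Agent.Characters.Core Cfsg.Agent.Characters.Linear
open scoped ComplexConjugate

universe u v w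

section Chars

variable {B : Type u} [Group B] [Finite B]

theorem sum_hom_eq_zero [Fintype B] (μ : B →* ℂˣ) (hμ : μ ≠ 1) : ∑ b : B, conj ((μ b : ℂ)) = 0 := by
  have hne : (fun g => (μ g : ℂ)) ≠ (1 : B → ℂ) := by
    intro h
    apply hμ
    ext b
    simpa using congrFun h b
  have h := classInner_irr_ne (G := B) isIrr_one (isIrrCharacter_hom μ) hne.symm
  rw [classInner_def, mul_eq_zero] at h
  rcases h with h | h
  · exact absurd (inv_eq_zero.mp h) card_ne_zero_complex
  · simpa using h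

/-- a character constant off the identity -/
theorem deg_const {χ : B → ℂ} (hχ : IsCharacter B χ) {c : ℂ} (hc : ∀ b, b ≠ 1 → χ b = c) (hne : χ 1 ≠ c)
    {μ : B →* ℂˣ} (hμ : μ ≠ 1) {n : ℕ} (hn : χ 1 = n) : Nat.card B - 1 ≤ n := by
  classical
  have := Fintype.ofFinite B
  have hB0 : (Nat.card B : ℂ) ≠ 0 := card_ne_zero_complex
  obtain ⟨m, hm⟩ := classInner_isNat hχ (isIrr_isCharacter (isIrr_one (G := B)))
  obtain ⟨k, hk⟩ := classInner_isNat hχ (isCharacter_hom μ)
  have e1 : ∀ f : B → ℂ, ∑ b : B, χ b * f b = (χ 1 - c) * f 1 + c * ∑ b : B, f b := by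
    intro f
    rw [← Finset.add_sum_erase _ _ (Finset.mem_univ (1 : B)), ← Finset.add_sum_erase _ f (Finset.mem_univ (1 : B)),
      mul_add, Finset.mul_sum, Finset.sum_congr rfl fun b hb => by rw [hc b (Finset.ne_of_mem_erase hb)]]
    ring
  rw [classInner_def, e1] at hm hk
  have h1 : (∑ b : B, conj ((1 : B → ℂ) b)) = Nat.card B := by simp
  rw [h1] at hm
  rw [sum_hom_eq_zero μ hμ] at hk
  simp only [map_one, Units.val_one, mul_one, mul_zero, add_zero, Pi.one_apply] at hm hk
  have hk0 : k ≠ 0 := by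
    rintro rfl
    rw [Nat.cast_zero, mul_eq_zero] at hk
    rcases hk with hk | hk
    · exact hB0 (inv_eq_zero.1 hk)
    · exact hne (sub_eq_zero.1 hk)
  have e2 : χ 1 - c = Nat.card B * k := by rw [← hk, mul_inv_cancel_left₀ hB0]
  have e3 : χ 1 - c + c * Nat.card B = Nat.card B * m := by rw [← hm, mul_inv_cancel_left₀ hB0]
  have e4 : (n : ℂ) + k = m + Nat.card B * k := by
    rw [hn] at e2 e3
    have e5 : c = n - Nat.card B * k := by linear_combination -e2
    rw [e5] at e3
    have e6 : (Nat.card B : ℂ) * (n + k) = Nat.card B * (m + Nat.card B * k) := by linear_combination e3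
    exact mul_left_cancel₀ hB0 e6
  have e7 : n + k = m + Nat.card B * k := by exact_mod_cast e4
  obtain ⟨b, hb⟩ : ∃ b, Nat.card B = b + 1 := ⟨Nat.card B - 1, by have := Nat.card_pos (α := B); omega⟩
  rw [hb] at e7 ⊢
  have h2 : b ≤ b * k := Nat.le_mul_of_pos_right b (Nat.pos_of_ne_zero hk0)
  have h3 : (b + 1) * k = b * k + k := by ring
  omega

/-- the number of the linear constituents of a character -/
theorem card_linear_le {χ : B → ℂ} (hχ : IsCharacter B χ) [Fintype B] (S : Finset (B →* ℂˣ))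
    (hS : ∀ μ ∈ S, classInner χ (fun b => (μ b : ℂ)) ≠ 0) {n : ℕ} (hn : χ 1 = n) : S.card ≤ n := by
  classical
  have : Finite (IrrCharacter B) := finite_irr
  have := Fintype.ofFinite (IrrCharacter B)
  let ψ : (B →* ℂˣ) → IrrCharacter B := fun μ => ⟨fun b => (μ b : ℂ), isIrrCharacter_hom μ⟩
  have hψ : Function.Injective ψ := by
    intro μ μ' h
    ext b
    exact congrFun (congrArg Subtype.val h) b
  have hdec : χ = ∑ φ : IrrCharacter B, classInner χ (φ : B → ℂ) • (φ : B → ℂ) :=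
    (classFunction_eq_sum (isCharacter_isClassFunction hχ))
  have h1 : (n : ℂ) = ∑ φ : IrrCharacter B, classInner χ (φ : B → ℂ) * (φ : B → ℂ) 1 := by
    rw [← hn]
    conv_lhs => rw [hdec]
    simp [Finset.sum_apply]
  have h2 : ∀ φ : IrrCharacter B, ∃ k : ℕ, classInner χ (φ : B → ℂ) * (φ : B → ℂ) 1 = k := by
    intro φ
    obtain ⟨a, ha⟩ := classInner_isNat hχ (isIrr_isCharacter φ.2)
    obtain ⟨b, -, hb⟩ := isIrr_apply_one φ.2
    exact ⟨a * b, by rw [ha, hb]; push_cast; ring⟩
  choose k hk using h2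
  have h3 : n = ∑ φ : IrrCharacter B, k φ := by
    have : (n : ℂ) = ((∑ φ : IrrCharacter B, k φ : ℕ) : ℂ) := by
      rw [h1, Nat.cast_sum]
      exact Finset.sum_congr rfl fun φ _ => hk φ
    exact_mod_cast this
  rw [h3]
  calc S.card = ∑ φ ∈ S.image ψ, 1 := by
        rw [Finset.sum_const, smul_eq_mul, mul_one, Finset.card_image_of_injective _ hψ]
    _ ≤ ∑ φ ∈ S.image ψ, k φ := by
        refine Finset.sum_le_sum fun φ hφ => ?_
        obtain ⟨μ, hμ, rfl⟩ := Finset.mem_image.1 hφ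
        rw [Nat.one_le_iff_ne_zero]
        intro h0
        have h4 := hk (ψ μ)
        rw [h0, Nat.cast_zero, mul_eq_zero] at h4
        rcases h4 with h4 | h4
        · exact hS μ hμ h4
        · exact isIrr_apply_one_ne_zero (ψ μ).2 h4
    _ ≤ ∑ φ : IrrCharacter B, k φ := Finset.sum_le_univ_sum_of_nonneg fun φ => Nat.zero_le _

/-- partial fusion in a cyclic group of prime order -/
theorem deg_pow {χ : B → ℂ} (hχ : IsCharacter B χ) {p : ℕ} (hp : p.Prime) (hB : Nat.card B = p)
    (hcomm : ∀ a b : B, a * b = b * a) (J : Finset ℕ) (hJ : ∀ j ∈ J, 0 < j ∧ j < p) (hpow : ∀ j ∈ J, ∀ b, χ (b ^ j) = χ b)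
    (hne : ∃ b, χ b ≠ χ 1) {n : ℕ} (hn : χ 1 = n) : J.card ≤ n := by
  classical
  have := Fintype.ofFinite B
  have : Finite (IrrCharacter B) := finite_irr
  have := Fintype.ofFinite (IrrCharacter B)
  -- a nontrivial constituent
  obtain ⟨μ, hμ1, hμ⟩ : ∃ μ : B →* ℂˣ, μ ≠ 1 ∧ classInner χ (fun b => (μ b : ℂ)) ≠ 0 := by
    by_contra hcon
    push Not at hcon
    have hlin : ∀ φ : IrrCharacter B, (φ : B → ℂ) 1 = 1 := by
      intro φ
      obtain ⟨m, ρ, hρ, hφ⟩ := φ.2
      have h1 : ∀ b, ∃ c : ℂ, ρ b = c • (1 : Module.End ℂ (Fin m → ℂ)) := fun b =>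
        Cfsg.Agent.Characters.Central.exists_smul_of_comm ρ hρ (ρ b) fun g => by
          rw [← map_mul, ← map_mul, hcomm]
      have h2 : ∀ b, ρ.character b * ρ.character b⁻¹ = (m : ℂ) ^ 2 := by
        intro b
        obtain ⟨c, hc⟩ := h1 b
        obtain ⟨c', hc'⟩ := h1 b⁻¹
        have h3 : c • c' • (1 : Module.End ℂ (Fin m → ℂ)) = 1 := by
          rw [← hc', ← smul_one_mul c, ← hc, ← map_mul, mul_inv_cancel, map_one]
        have h4 := congrArg (LinearMap.trace ℂ (Fin m → ℂ)) h3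
        simp only [map_smul, LinearMap.trace_one, Module.finrank_fin_fun, smul_eq_mul] at h4
        show LinearMap.trace ℂ _ (ρ b) * LinearMap.trace ℂ _ (ρ b⁻¹) = _
        rw [hc, hc']
        simp only [map_smul, LinearMap.trace_one, Module.finrank_fin_fun, smul_eq_mul]
        linear_combination (m : ℂ) * h4
      have h5 := Cfsg.Agent.Characters.Central.sum_char_mul_char_inv ρ hρ
      simp only [h2, Finset.sum_const, Finset.card_univ, nsmul_eq_mul, Nat.card_eq_fintype_card] at h5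
      have hG : (Fintype.card B : ℂ) ≠ 0 := by exact_mod_cast Fintype.card_ne_zero
      have h6 : ((m ^ 2 : ℕ) : ℂ) = ((1 : ℕ) : ℂ) := by
        push_cast
        exact mul_left_cancel₀ hG (by rw [h5, mul_one])
      have h7 : m ^ 2 = 1 := by exact_mod_cast h6
      have h8 : m = 1 := (Nat.pow_eq_one.1 h7).resolve_right (by norm_num)
      rw [← hφ, Representation.char_one, h8]
      simp
    have hz : ∀ φ : IrrCharacter B, (φ : B → ℂ) ≠ 1 → classInner χ (φ : B → ℂ) = 0 := by
      intro φ hφ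
      obtain ⟨f, hf⟩ := exists_hom_of_isIrrCharacter φ.2 (hlin φ)
      rw [hf]
      apply hcon f
      rintro rfl
      exact hφ (hf.trans (funext fun g => by simp))
    obtain ⟨b, hb⟩ := hne
    apply hb
    rw [classFunction_eq_sum (isCharacter_isClassFunction hχ)]
    simp only [Finset.sum_apply, Pi.smul_apply, smul_eq_mul]
    refine Finset.sum_congr rfl fun φ _ => ?_
    by_cases hφ : (φ : B → ℂ) = 1
    · rw [hφ]; simp
    · rw [hz φ hφ, zero_mul, zero_mul]
  have hμp : orderOf μ = p := by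
    have := Fact.mk hp
    refine orderOf_eq_prime ?_ hμ1
    ext b
    have : b ^ p = 1 := by rw [← hB]; exact pow_card_eq_one'
    simp only [MonoidHom.pow_apply, MonoidHom.one_apply, Units.val_one]
    rw [← map_pow, this, map_one, Units.val_one]
  have hinj : Set.InjOn (fun j : ℕ => μ ^ j) (J : Set ℕ) := by
    intro i hi j hj hij
    have h1 := (pow_inj_mod (x := μ)).1 hij
    rw [hμp, Nat.mod_eq_of_lt (hJ i hi).2, Nat.mod_eq_of_lt (hJ j hj).2] at h1
    exact h1
  have hcard := card_linear_le hχ (J.image fun j => μ ^ j) ?_ hn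
  · rwa [Finset.card_image_of_injOn hinj] at hcard
  · intro ν hν
    obtain ⟨j, hj, rfl⟩ := Finset.mem_image.1 hν
    have hcop : (Nat.card B).Coprime j := by
      rw [hB, Nat.Prime.coprime_iff_not_dvd hp]
      exact Nat.not_dvd_of_pos_of_lt (hJ j hj).1 (hJ j hj).2
    have h1 : classInner χ (fun b => ((μ ^ j) b : ℂ)) = classInner χ (fun b => (μ b : ℂ)) := by
      rw [classInner_def, classInner_def]
      congr 1
      rw [← Equiv.sum_comp (powCoprime hcop) (fun b => χ b * conj (μ b : ℂ))]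
      refine Finset.sum_congr rfl fun b _ => ?_
      rw [powCoprime_apply, hpow j hj, map_pow, MonoidHom.pow_apply]
    rw [h1]
    exact hμ

end Chars

/-! ### lifting to a perfect central extension -/

section Lift

variable {L : Type u} {K : Type v} [Group L] [Finite L] [Group K] {π : L →* K}

/-- elements of order prime to the kernel, conjugate in `K`, are conjugate -/
theorem isConj_of_lift (hπ : PCE π) {a b : L} {N : ℕ} (hN : N.Coprime (Nat.card π.ker)) (ha : a ^ N = 1)
    (hb : b ^ N = 1) (h : IsConj (π a) (π b)) : IsConj a b := by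
  obtain ⟨y, hy⟩ := isConj_iff.1 h
  obtain ⟨g, rfl⟩ := hπ.surj y
  rw [isConj_iff]
  refine ⟨g, ?_⟩
  have hz : b⁻¹ * (g * a * g⁻¹) ∈ π.ker := by
    rw [MonoidHom.mem_ker, map_mul, map_inv, map_mul, map_mul, map_inv, hy, inv_mul_cancel]
  obtain ⟨z, hzz⟩ : ∃ z, z = b⁻¹ * (g * a * g⁻¹) := ⟨_, rfl⟩
  rw [← hzz] at hz
  have e : g * a * g⁻¹ = b * z := by rw [hzz, mul_inv_cancel_left]
  have hc : Commute b z := mem_center_iff.1 (hπ.cen hz) b
  have h1 : z ^ N = 1 := by
    have h2 : (b * z) ^ N = 1 := by rw [← e, conj_pow, ha, mul_one, mul_inv_cancel]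
    rwa [hc.mul_pow, hb, one_mul] at h2
  have h2 : z ^ Nat.card π.ker = 1 := by
    have h3 : (⟨z, hz⟩ : π.ker) ^ Nat.card π.ker = 1 := pow_card_eq_one'
    exact congrArg Subtype.val h3
  have h3 : orderOf z = 1 := by
    apply Nat.eq_one_of_dvd_one
    have h4 := Nat.dvd_gcd (orderOf_dvd_of_pow_eq_one h1) (orderOf_dvd_of_pow_eq_one h2)
    rwa [hN] at h4
  rw [e, orderOf_eq_one_iff.1 h3, mul_one]

/-- a lift of the same order -/
theorem exists_lift_pow (hπ : PCE π) {x : K} {N : ℕ} (hN : N.Coprime (Nat.card π.ker)) (hx : x ^ N = 1) :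
    ∃ a : L, π a = x ∧ a ^ N = 1 := by
  obtain ⟨y, rfl⟩ := hπ.surj x
  have hz : y ^ N ∈ π.ker := by rw [MonoidHom.mem_ker, map_pow, hx]
  have h2 : (y ^ N) ^ Nat.card π.ker = 1 := by
    have h3 : (⟨y ^ N, hz⟩ : π.ker) ^ Nat.card π.ker = 1 := pow_card_eq_one'
    exact congrArg Subtype.val h3
  rcases Nat.lt_or_ge 1 N with hN1 | hN1
  · obtain ⟨m, hm⟩ := Nat.exists_mul_mod_eq_one_of_coprime hN.symm hN1
    have hm' : Nat.card π.ker * m ≡ 1 [MOD N] := by
      rw [Nat.ModEq, hm.2, Nat.mod_eq_of_lt hN1]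
    refine ⟨y ^ (Nat.card π.ker * m), ?_, ?_⟩
    · rw [map_pow]
      have h4 : π y ^ (Nat.card π.ker * m) = π y ^ 1 := by
        rw [pow_eq_pow_iff_modEq]
        exact hm'.of_dvd (orderOf_dvd_of_pow_eq_one hx)
      rw [h4, pow_one]
    · rw [← pow_mul, mul_comm, pow_mul, pow_mul, h2, one_pow]
  · rcases Nat.le_one_iff_eq_zero_or_eq_one.1 hN1 with h | h
    · subst h
      exact ⟨y, rfl, pow_zero _⟩
    · subst h
      rw [pow_one] at hx
      exact ⟨1, by rw [map_one, hx], one_pow _⟩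

variable [IsSimpleGroup K]

/-- **Fused `p`-subgroups.** -/
theorem deg_fused (hπ : PCE π) {p : ℕ} (hp : p.Prime) (hcop : ¬ p ∣ Nat.card π.ker) {n : ℕ}
    (ρ : Representation ℂ L (Fin n → ℂ)) (hρ : ∃ g, ρ g ≠ 1) (B : Subgroup K) (hB : IsPGroup p B)
    (hconj : ∀ a ∈ B, a ≠ 1 → ∀ b ∈ B, b ≠ 1 → IsConj a b) : Nat.card B - 1 ≤ n := by
  classical
  have := Fact.mk hp
  have hKfin : Finite K := Finite.of_surjective _ hπ.surj
  by_cases hB1 : Nat.card B = 1
  · rw [hB1]; exact Nat.zero_le _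
  -- a Sylow subgroup of the preimage
  let H : Subgroup L := B.comap π
  obtain ⟨P⟩ : Nonempty (Sylow p H) := inferInstance
  let Q : Subgroup L := (P : Subgroup H).map H.subtype
  have hQp : IsPGroup p Q := P.isPGroup'.map _
  have hQH : ∀ x ∈ Q, π x ∈ B := by
    rintro _ ⟨x, -, rfl⟩
    exact x.2
  have hinj : ∀ x ∈ Q, π x = 1 → x = 1 := by
    intro x hx h1
    obtain ⟨k, hk⟩ := IsPGroup.iff_orderOf.1 hQp ⟨x, hx⟩
    rw [orderOf_mk] at hk
    have h2 : orderOf x ∣ Nat.card π.ker := by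
      have h3 : orderOf (⟨x, MonoidHom.mem_ker.2 h1⟩ : π.ker) ∣ Nat.card π.ker := orderOf_dvd_natCard _
      rwa [orderOf_mk] at h3
    rcases Nat.eq_zero_or_pos k with h0 | h0
    · rw [h0, pow_zero] at hk
      exact orderOf_eq_one_iff.1 hk
    · exact absurd ((dvd_pow_self p h0.ne').trans (hk ▸ h2)) hcop
  -- its order
  have hcardQ : Nat.card Q = Nat.card B := by
    have h1 : Nat.card Q = Nat.card (P : Subgroup H) :=
      Nat.card_congr ((P : Subgroup H).equivMapOfInjective _ H.subtype_injective).symm.toEquiv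
    rw [h1]
    have h2 : Nat.card H = Nat.card π.ker * Nat.card B := by
      have h3 : Nat.card H * B.index = Nat.card π.ker * Nat.card B * B.index := by
        rw [← index_comap_of_surjective B hπ.surj, card_mul_index, index_comap_of_surjective B hπ.surj, mul_assoc,
          card_mul_index, ← card_mul_index π.ker, index_ker, MonoidHom.range_eq_top.2 hπ.surj,
          Nat.card_congr topEquiv.toEquiv]
      exact Nat.eq_of_mul_eq_mul_right (Nat.pos_of_ne_zero (index_ne_zero_of_finite (H := B))) h3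
    obtain ⟨b, hb⟩ := hB.exists_card_eq
    rw [P.card_eq_multiplicity, h2, Nat.factorization_mul Nat.card_pos.ne' Nat.card_pos.ne', Finsupp.add_apply,
      Nat.factorization_eq_zero_of_not_dvd hcop, zero_add, hb, hp.factorization_pow, Finsupp.single_eq_same]
  have hQ1 : Nontrivial Q := by
    rw [← Finite.one_lt_card_iff_nontrivial, hcardQ]
    have := Nat.card_pos (α := B)
    omega
  -- a nontrivial linear character
  obtain ⟨μ, hμ⟩ : ∃ μ : Q →* ℂˣ, μ ≠ 1 := by
    by_contra hcon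
    push Not at hcon
    have h1 : Nat.card (Q →* ℂˣ) = 1 := by
      rw [Nat.card_eq_one_iff_unique]
      exact ⟨⟨fun a b => (hcon a).trans (hcon b).symm⟩, ⟨1⟩⟩
    rw [card_hom_eq_index_commutator, index_eq_one] at h1
    have := hQp.isNilpotent
    exact (Group.IsSolvable.commutator_lt_top_of_nontrivial Q).ne h1
  -- the powers
  have hord : ∀ x ∈ Q, x ^ Nat.card Q = 1 := by
    intro x hx
    have h3 : (⟨x, hx⟩ : Q) ^ Nat.card Q = 1 := pow_card_eq_one'
    exact congrArg Subtype.val h3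
  have hNcop : (Nat.card Q).Coprime (Nat.card π.ker) := by
    obtain ⟨b, hb⟩ := hQp.exists_card_eq
    rw [hb]
    exact Nat.Coprime.pow_left b ((Nat.Prime.coprime_iff_not_dvd hp).2 hcop)
  have hfuse : ∀ a b : Q, a ≠ 1 → b ≠ 1 → ρ.character a = ρ.character b := by
    intro a b ha hb
    have h1 : IsConj (a : L) b := by
      refine isConj_of_lift hπ hNcop (hord a a.2) (hord b b.2) (hconj _ (hQH a a.2) ?_ _ (hQH b b.2) ?_)
      · exact fun h => ha (Subtype.ext (hinj a a.2 h))
      · exact fun h => hb (Subtype.ext (hinj b b.2 h))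
    obtain ⟨g, hg⟩ := isConj_iff.1 h1
    rw [← hg, Representation.char_conj]
  obtain ⟨b0, hb0⟩ := exists_ne (1 : Q)
  have h1 := deg_const (B := Q) (χ := ρ.character ∘ Q.subtype) (isCharacter_comp Q.subtype ⟨n, ρ, rfl⟩)
    (c := ρ.character b0) (fun b hb => hfuse b b0 hb hb0) ?_ hμ (n := n) ?_
  · rwa [hcardQ] at h1
  · intro h
    have h2 : ρ.character (b0 : L) = (Module.finrank ℂ (Fin n → ℂ) : ℂ) := by
      rw [← h]
      show ρ.character ((1 : Q) : L) = _
      rw [OneMemClass.coe_one, Representation.char_one]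
    rw [Cfsg.Agent.Characters.Values.character_eq_finrank_iff] at h2
    exact hb0 (Subtype.ext (hinj b0 b0.2 (ker_le hπ ρ hρ h2)))
  · show ρ.character ((1 : Q) : L) = _
    rw [OneMemClass.coe_one, Representation.char_one]
    simp

/-- **Partial fusion in a group of prime order.** -/
theorem deg_of_pow (hπ : PCE π) {p : ℕ} (hp : p.Prime) (hcop : ¬ p ∣ Nat.card π.ker) {n : ℕ}
    (ρ : Representation ℂ L (Fin n → ℂ)) (hρ : ∃ g, ρ g ≠ 1) {x : K} (hx : orderOf x = p) (J : Finset ℕ)
    (hJ : ∀ j ∈ J, 0 < j ∧ j < p) (hconj : ∀ j ∈ J, IsConj x (x ^ j)) : J.card ≤ n := by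
  classical
  have := Fact.mk hp
  have hcop' : p.Coprime (Nat.card π.ker) := (Nat.Prime.coprime_iff_not_dvd hp).2 hcop
  obtain ⟨a, ha, hap⟩ := exists_lift_pow hπ hcop' (x := x) (by rw [← hx]; exact pow_orderOf_eq_one x)
  have hx1 : x ≠ 1 := by
    rintro rfl
    rw [orderOf_one] at hx
    exact hp.one_lt.ne hx
  have ha1 : a ≠ 1 := by
    rintro rfl
    exact hx1 (by rw [← ha, map_one])
  have hord : orderOf a = p := orderOf_eq_prime hap ha1
  let B : Subgroup L := zpowers a
  have hB : Nat.card B = p := by rw [Nat.card_zpowers, hord]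
  have hpow : ∀ j ∈ J, ∀ b : B, ρ.character ((b : L) ^ j) = ρ.character b := by
    intro j hj b
    have h1 : IsConj a (a ^ j) := by
      refine isConj_of_lift hπ hcop' hap ?_ ?_
      · rw [← pow_mul, mul_comm, pow_mul, hap, one_pow]
      · rw [map_pow, ha]; exact hconj j hj
    obtain ⟨g, hg⟩ := isConj_iff.1 h1
    obtain ⟨i, hi⟩ := mem_powers_iff_mem_zpowers.2 b.2
    have hi' : a ^ i = (b : L) := hi
    rw [← hi', ← pow_mul, mul_comm, pow_mul, ← hg, conj_pow, Representation.char_conj]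
  have h1 := deg_pow (B := B) (χ := ρ.character ∘ B.subtype) (isCharacter_comp B.subtype ⟨n, ρ, rfl⟩) hp hB
    ?_ J hJ (fun j hj b => by
      show ρ.character ((b ^ j : B) : L) = ρ.character (b : L)
      rw [SubmonoidClass.coe_pow]
      exact hpow j hj b) ?_ (n := n) ?_
  · exact h1
  · intro c d
    exact (IsCyclic.commGroup (α := B)).mul_comm c d
  · refine ⟨⟨a, mem_zpowers a⟩, fun h => ?_⟩
    have h2 : ρ.character a = (Module.finrank ℂ (Fin n → ℂ) : ℂ) := by
      have h3 : ρ.character a = ρ.character ((1 : B) : L) := h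
      rw [h3, OneMemClass.coe_one, Representation.char_one]
    rw [Cfsg.Agent.Characters.Values.character_eq_finrank_iff] at h2
    exact hx1 (by rw [← ha]; exact ker_le hπ ρ hρ h2)
  · show ρ.character ((1 : B) : L) = _
    rw [OneMemClass.coe_one, Representation.char_one]
    simp

end Lift

section PDs

variable {K : Type v} [Group K] [IsSimpleGroup K]

/-- **Fused `p`-subgroups**, for all perfect central extensions. -/
theorem PD.of_fused {p : ℕ} (hp : p.Prime)
    (hcop : ∀ (L : Type) [Group L] [Finite L] (π : L →* K), PCE π → ¬ p ∣ Nat.card π.ker) (B : Subgroup K)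
    (hB : IsPGroup p B) (hconj : ∀ a ∈ B, a ≠ 1 → ∀ b ∈ B, b ≠ 1 → IsConj a b) {D : ℕ} (hD : D + 1 ≤ Nat.card B) :
    PD K D := by
  intro L _ _ π hπ n ρ hρ
  have := deg_fused hπ hp (hcop L π hπ) ρ hρ B hB hconj
  omega

/-- **Fused `p`-subgroups**, for the perfect central extensions with kernel of order `k`. -/
theorem PDk.of_fused {p : ℕ} (hp : p.Prime) {k : ℕ} (hk : ¬ p ∣ k) (B : Subgroup K)
    (hB : IsPGroup p B) (hconj : ∀ a ∈ B, a ≠ 1 → ∀ b ∈ B, b ≠ 1 → IsConj a b) {D : ℕ} (hD : D + 1 ≤ Nat.card B) :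
    PDk K k D := by
  intro L _ _ π hπ hk' n ρ _ hρ _
  have := deg_fused hπ hp (hk'.symm ▸ hk) ρ hρ B hB hconj
  omega

theorem PD.of_pow {p : ℕ} (hp : p.Prime)
    (hcop : ∀ (L : Type) [Group L] [Finite L] (π : L →* K), PCE π → ¬ p ∣ Nat.card π.ker) {x : K} (hx : orderOf x = p)
    (J : Finset ℕ) (hJ : ∀ j ∈ J, 0 < j ∧ j < p) (hconj : ∀ j ∈ J, IsConj x (x ^ j)) : PD K J.card :=
  fun L _ _ π hπ _ ρ hρ => deg_of_pow hπ hp (hcop L π hπ) ρ hρ hx J hJ hconj

theorem PDk.of_pow {p : ℕ} (hp : p.Prime) {k : ℕ} (hk : ¬ p ∣ k) {x : K} (hx : orderOf x = p)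
    (J : Finset ℕ) (hJ : ∀ j ∈ J, 0 < j ∧ j < p) (hconj : ∀ j ∈ J, IsConj x (x ^ j)) : PDk K k J.card :=
  fun _ _ _ _ hπ hk' _ ρ _ hρ _ => deg_of_pow hπ hp (hk'.symm ▸ hk) ρ hρ hx J hJ hconj

end PDs

end Cfsg.Agent.H253.TC
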