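import Cfsg.Agent.H253.TwoComm.FixTt
import Cfsg.Agent.H973.BabyCov
import Cfsg.Agent.S2059
import Cfsg.Agent.NotCT.Orders

/-!
# The Baby Monster and the Monster (S2494, helper253)
-/

set_option autoImplicit false

namespace Cfsg.Agent.H253.TC

open Cfsg Subgroup
open Cfsg.Agent.MonsterU.Ch
open Cfsg.Agent.MonsterU.Lam2 (L2 IsType)

universe u

/-- central quotients do not enlarge centralizers -/
theorem card_cent_le_of_central {E X : Type*} [Group E] [Finite E] [Group X] (φ : E →* X)
    (hφ : Function.Surjective φ) (hk : φ.ker ≤ center E) (x : E) :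
    Nat.card (centralizer ({φ x} : Set X)) ≤ Nat.card (centralizer ({x} : Set E)) := by
  have hX : Finite X := Finite.of_surjective φ hφ
  let P : Subgroup E := (centralizer ({φ x} : Set X)).comap φ
  have hP : ∀ g : P, (g : E) * x * (g : E)⁻¹ * x⁻¹ ∈ φ.ker := by
    intro g
    have h1 : φ g * φ x = φ x * φ g := mem_centralizer_singleton_iff.1 g.2
    rw [MonoidHom.mem_ker, map_mul, map_mul, map_mul, map_inv, map_inv, h1, mul_inv_cancel_right, mul_inv_cancel]
  let θ : P →* φ.ker :=
    { toFun := fun g => ⟨_, hP g⟩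
      map_one' := Subtype.ext (by
        show ((1 : P) : E) * x * ((1 : P) : E)⁻¹ * x⁻¹ = 1
        rw [OneMemClass.coe_one, one_mul, inv_one, mul_one, mul_inv_cancel])
      map_mul' := fun g h => Subtype.ext (by
        show ((g * h : P) : E) * x * ((g * h : P) : E)⁻¹ * x⁻¹ =
          ((g : E) * x * (g : E)⁻¹ * x⁻¹) * ((h : E) * x * (h : E)⁻¹ * x⁻¹)
        have h1 := mem_center_iff.1 (hk (hP h))
        have h2 : ((g * h : P) : E) * x * ((g * h : P) : E)⁻¹ * x⁻¹ =
            (g : E) * ((h : E) * x * (h : E)⁻¹ * x⁻¹) * (x * (g : E)⁻¹ * x⁻¹) := by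
          rw [Subgroup.coe_mul]; group
        rw [h2, h1 g, h1 ((g : E) * x * (g : E)⁻¹ * x⁻¹)]
        simp only [mul_assoc]) }
  have h1 : Nat.card P = Nat.card θ.ker * Nat.card θ.range := (card_ker_mul_card_range θ).symm
  have h2 : Nat.card θ.range ≤ Nat.card φ.ker := Nat.card_le_card_of_injective _ Subtype.val_injective
  have h3 : Nat.card θ.ker ≤ Nat.card (centralizer ({x} : Set E)) := by
    refine Nat.card_le_card_of_injective (fun g => ⟨((g : P) : E), mem_centralizer_singleton_iff.2 ?_⟩) ?_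
    · have h4 : ((g : P) : E) * x * ((g : P) : E)⁻¹ * x⁻¹ = 1 := congrArg Subtype.val g.2
      rw [mul_inv_eq_one, mul_inv_eq_iff_eq_mul] at h4
      exact h4
    · intro a b hab
      have h5 : ((a : P) : E) = ((b : P) : E) :=
        congrArg (fun w : centralizer ({x} : Set E) => (w : E)) hab
      exact Subtype.ext (Subtype.ext h5)
  let ψ : P →* centralizer ({φ x} : Set X) :=
    { toFun := fun g => ⟨φ g, g.2⟩
      map_one' := Subtype.ext (map_one φ)
      map_mul' := fun a b => Subtype.ext (map_mul φ _ _) }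
  have hψ : Function.Surjective ψ := by
    rintro ⟨c, hc⟩
    obtain ⟨g, rfl⟩ := hφ c
    exact ⟨⟨g, hc⟩, rfl⟩
  have h6 : Nat.card P = Nat.card ψ.ker * Nat.card (centralizer ({φ x} : Set X)) := by
    rw [← card_ker_mul_card_range ψ, MonoidHom.range_eq_top.2 hψ, card_top]
  have h7 : Nat.card φ.ker ≤ Nat.card ψ.ker := by
    refine Nat.card_le_card_of_injective (fun g => ⟨⟨(g : E), ?_⟩, ?_⟩) ?_
    · show φ (g : E) ∈ centralizer ({φ x} : Set X)
      rw [MonoidHom.mem_ker.1 g.2]
      exact one_mem _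
    · exact Subtype.ext (MonoidHom.mem_ker.1 g.2)
    · intro a b hab
      exact Subtype.ext (congrArg (fun w : ψ.ker => ((w : P) : E)) hab)
  have h8 : 0 < Nat.card φ.ker := Nat.card_pos
  have h9 : Nat.card φ.ker * Nat.card (centralizer ({φ x} : Set X)) ≤
      Nat.card φ.ker * Nat.card (centralizer ({x} : Set E)) := by
    calc Nat.card φ.ker * Nat.card (centralizer ({φ x} : Set X))
        ≤ Nat.card ψ.ker * Nat.card (centralizer ({φ x} : Set X)) := Nat.mul_le_mul_right _ h7
      _ = Nat.card θ.ker * Nat.card θ.range := by rw [← h6, h1]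
      _ ≤ Nat.card (centralizer ({x} : Set E)) * Nat.card φ.ker := Nat.mul_le_mul h3 h2
      _ = _ := mul_comm _ _
  exact Nat.le_of_mul_le_mul_left h9 h8

theorem exists_bm : ∃ (Q : Subgroup Spor.Monster) (z : Spor.Monster) (eta : Spor.Monster → L2)
    (pi : centralizer ({z} : Set Spor.Monster) →* Spor.Co1) (x t : Spor.Monster), Chart Q z eta pi ∧
      Nat.card (centralizer ({x} : Set Spor.Monster)) ≤ 184 ∧ t ∈ Q ∧ IsType 2 (eta t) ∧ x * t = t * x := by
  have := Cfsg.Agent.H848.MonsterSetup.finite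
  obtain ⟨Q, z, eta, pi, h⟩ := Cfsg.Agent.H848.MonsterSetup.exists_chart
  obtain ⟨y, hy, hy1, hc, t, htQ, ht, hyt, hzt⟩ := BM.exists_23 h
  refine ⟨Q, z, eta, pi, z * y, t, h, ?_, htQ, ht, ?_⟩
  · exact (card_cent_mul_le h.large.z_sq hy (r := 23) (by decide) hy1).trans hc
  · rw [mul_assoc, hyt, ← mul_assoc, hzt, mul_assoc]

theorem row_m {K : Type u} [Group K] [IsSimpleGroup K] (h : Spor.IsoM K) : Row K := by
  obtain ⟨e⟩ := h
  have hs := Cfsg.Agent.H848.MonsterSetup.simple
  have := Cfsg.Agent.H848.MonsterSetup.finite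
  refine Row.congr ?_ e.symm
  obtain ⟨Q, z, eta, pi, x, t, -, hx, -⟩ := exists_bm
  exact Row.of_card (p := 71) Cfsg.Agent.H848.MonsterSetup.card (by norm_num) (by norm_num) S2059.result (by norm_num)
    (by norm_num) (by norm_num) (by norm_num) (by norm_num) (by norm_num) (by norm_num) x hx (by norm_num)

theorem row_b {K : Type u} [Group K] [IsSimpleGroup K] (h : Spor.IsoB K) : Row K := by
  have hn := NotCT.Orders.b h
  obtain ⟨e⟩ := h
  have hs : IsSimpleGroup Spor.BabyMonster := e.symm.isSimpleGroup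
  have := Cfsg.Agent.H848.MonsterSetup.finite
  refine Row.congr ?_ e.symm
  obtain ⟨Q, z, eta, pi, x, t, hch, hx, htQ, ht, hxt⟩ := exists_bm
  obtain ⟨-, -, ⟨f⟩, -⟩ := Cfsg.Agent.H973.BabyCov.cover_of_type_two hch htQ ht
  let φ : centralizer ({t} : Set Spor.Monster) →* Spor.BabyMonster :=
    f.toMonoidHom.comp (QuotientGroup.mk' (center _))
  have hφ : Function.Surjective φ := f.surjective.comp (QuotientGroup.mk'_surjective _)
  have hker : φ.ker ≤ center _ := by
    intro g hg
    have h1 : f (QuotientGroup.mk' _ g) = 1 := hg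
    rw [map_eq_one_iff f f.injective, ← MonoidHom.mem_ker, QuotientGroup.ker_mk'] at h1
    exact h1
  let x' : centralizer ({t} : Set Spor.Monster) := ⟨x, mem_centralizer_singleton_iff.2 hxt⟩
  have h1 := card_cent_le_of_central φ hφ hker x'
  have h2 := card_cent_le_of_inj (centralizer ({t} : Set Spor.Monster)).subtype (subtype_injective _) x'
  have h3 := (h1.trans h2).trans hx
  have hn' : Nat.card Spor.BabyMonster = 4154781481226426191177580544000000 := by
    rw [← hn, Nat.card_congr e.toEquiv]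
  exact Row.of_card (p := 47) hn' (by norm_num) (by norm_num) S2058.result (by norm_num)
    (by norm_num) (by norm_num) (by norm_num) (by norm_num) (by norm_num) (by norm_num) (φ x') h3 (by norm_num)

end Cfsg.Agent.H253.TC
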