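import Cfsg.Agent.H253.TwoComm.SporTool
import Cfsg.Agent.H253.TwoComm.Cent
import Cfsg.Agent.H604.Cop.Conway
import Cfsg.Agent.S2044
import Cfsg.Agent.S0397
import Cfsg.Agent.S2045
import Cfsg.Agent.NotCT.Orders

/-!
# The second and third Conway groups (S2494, helper253)
-/

set_option autoImplicit false

namespace Cfsg.Agent.H253.TC

open Cfsg Subgroup
open Cfsg.Agent.H604.Cop.Conway
universe u


theorem orderOf_r23 : orderOf r23 = 23 := by
  have : Fact (Nat.Prime 23) := ⟨by norm_num⟩
  exact orderOf_eq_prime r23_pow r23_ne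

/-- subgroups of `Co0` -/
theorem exists_cent_co0 {H : Subgroup (Equiv.Perm leechLattice)} (hH : H ≤ Co0) (h : 23 ∣ Nat.card H) :
    ∃ m : H, Nat.card (centralizer ({m} : Set H)) ≤ 46 := by
  have hfin : Finite Co0 := Nat.finite_of_card_ne_zero (by rw [Cfsg.Agent.S0397.result]; norm_num)
  have : Fact (Nat.Prime 23) := ⟨by norm_num⟩
  have hinj : Function.Injective (Subgroup.inclusion hH) := Subgroup.inclusion_injective hH
  have : Finite H := Finite.of_injective _ hinj
  obtain ⟨x, hx⟩ := exists_prime_orderOf_dvd_card' (G := H) 23 h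
  refine ⟨x, (card_cent_le_of_inj (Subgroup.inclusion hH) hinj x).trans ?_⟩
  rw [card_cent_of_once (p := 23) (by norm_num) ?_ (y := r23) (by rw [orderOf_injective _ hinj, hx]) orderOf_r23]
  · exact card_cent_r23
  · rw [Cfsg.Agent.S0397.result]; norm_num

theorem row_co2 {K : Type u} [Group K] [IsSimpleGroup K] (h : Spor.IsoCo2 K) : Row K := by
  have hn := NotCT.Orders.co2 h
  obtain ⟨e⟩ := h
  have hs : IsSimpleGroup Spor.Co2 := e.symm.isSimpleGroup
  refine Row.congr ?_ e.symm
  have hn' : Nat.card Spor.Co2 = 42305421312000 := by rw [← hn, Nat.card_congr e.toEquiv]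
  obtain ⟨m, hm⟩ := exists_cent_co0 (H := Spor.Co2) inf_le_left (by rw [hn']; norm_num)
  exact Row.of_card (p := 23) hn' (by norm_num) (by norm_num) S2044.result (by norm_num) (by norm_num)
    (by norm_num) (by norm_num) (by norm_num) (by norm_num) (by norm_num) m hm (by norm_num)

theorem row_co3 {K : Type u} [Group K] [IsSimpleGroup K] (h : Spor.IsoCo3 K) : Row K := by
  have hn := NotCT.Orders.co3 h
  obtain ⟨e⟩ := h
  have hs : IsSimpleGroup Spor.Co3 := e.symm.isSimpleGroup
  refine Row.congr ?_ e.symm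
  have hn' : Nat.card Spor.Co3 = 495766656000 := by rw [← hn, Nat.card_congr e.toEquiv]
  obtain ⟨m, hm⟩ := exists_cent_co0 (H := Spor.Co3) inf_le_left (by rw [hn']; norm_num)
  exact Row.of_card (p := 23) hn' (by norm_num) (by norm_num) S2045.result (by norm_num) (by norm_num)
    (by norm_num) (by norm_num) (by norm_num) (by norm_num) (by norm_num) m hm (by norm_num)


end Cfsg.Agent.H253.TC
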