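import Cfsg.Agent.H253.TwoComm.SporTool
import Cfsg.Agent.H253.TwoComm.Cent
import Cfsg.Agent.H253.TwoComm.Dvd
import Cfsg.Agent.H713.Spor.Fi22
import Cfsg.Agent.H839.SeventeenMain
import Cfsg.Agent.H843.N29
import Cfsg.Agent.S2053
import Cfsg.Agent.S2054
import Cfsg.Agent.S2055
import Cfsg.Agent.NotCT.Orders

/-!
# The Fischer groups (S2494, helper253)
-/

set_option autoImplicit false

namespace Cfsg.Agent.H253.TC

open Cfsg Subgroup

universe u

theorem centralizer_zpowers {G : Type*} [Group G] (x : G) :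
    centralizer ((zpowers x : Subgroup G) : Set G) = centralizer {x} := by
  apply le_antisymm
  · exact centralizer_le (by simp)
  · intro c hc
    rw [mem_centralizer_iff]
    intro w hw
    obtain ⟨i, rfl⟩ := mem_zpowers_iff.1 hw
    have h8 : Commute x c := (mem_centralizer_singleton_iff.1 hc).symm
    exact h8.zpow_left i

/-- the degree bounds -/
def DF (k : ℕ) : ℕ := if k = 2 then 8 else if k = 3 then 9 else if k = 6 then 12 else 7

theorem row_fi22 {K : Type u} [Group K] [IsSimpleGroup K] (h : Spor.IsoFi22 K) : Row K := by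
  have hn := NotCT.Orders.fi22 h
  obtain ⟨e⟩ := h
  have hs : IsSimpleGroup Spor.Fi22 := e.symm.isSimpleGroup
  refine Row.congr ?_ e.symm
  have hn' : Nat.card Spor.Fi22 = 64561751654400 := by rw [← hn, Nat.card_congr e.toEquiv]
  have hfin : Finite Spor.Fi22 := Nat.finite_of_card_ne_zero (by rw [hn']; norm_num)
  have : Fact (Nat.Prime 13) := ⟨by norm_num⟩
  obtain ⟨x, hx⟩ := exists_prime_orderOf_dvd_card' (G := Spor.Fi22) 13 (by rw [hn']; norm_num)
  have h13 : ∀ k : ℕ, ¬ 13 ∣ k → PDk Spor.Fi22 k 7 := fun k hk =>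
    PDk.of_prime (p := 13) (not_comm_of_card hn' (by norm_num) (p := 13) (by norm_num) (by norm_num) (by norm_num))
      (by norm_num) hk (by rw [hn']; norm_num) (by rw [hn']; norm_num) (not_psl hn' (by norm_num) (by norm_num)
      (by norm_num)) (by norm_num)
  refine Row.of_crit_cyclic (n := 6) (by norm_num) S2053.result x (c := 13)
    (Cfsg.Agent.H713.Spor.Fi22.cent_13 (MulEquiv.refl _) hx).le DF ?_ ?_ ?_
  · intro k
    unfold DF
    split_ifs <;> norm_num
  · intro k hk
    have hk' : k ≤ 6 := Nat.le_of_dvd (by norm_num) hk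
    have h13' : ¬ 13 ∣ k := fun h => absurd (h.trans hk) (by norm_num)
    unfold DF
    split_ifs with c2 c3 c6
    · subst c2
      exact (h13 _ h13').dvd fun n hn h6 => by omega
    · subst c3
      exact (h13 _ h13').dvd fun n hn h6 => by omega
    · subst c6
      exact (h13 _ h13').dvd fun n hn h6 => by omega
    · exact h13 k h13'
  · norm_num [Finset.sum_Ico_succ_top, DF]

theorem row_fi23 {K : Type u} [Group K] [IsSimpleGroup K] (h : Spor.IsoFi23 K) : Row K := by
  have hn := NotCT.Orders.fi23 h
  obtain ⟨e⟩ := h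
  have hs : IsSimpleGroup Spor.Fi23 := e.symm.isSimpleGroup
  refine Row.congr ?_ e.symm
  have hn' : Nat.card Spor.Fi23 = 4089470473293004800 := by rw [← hn, Nat.card_congr e.toEquiv]
  have hfin : Finite Spor.Fi23 := Nat.finite_of_card_ne_zero (by rw [hn']; norm_num)
  have : Fact (Nat.Prime 23) := ⟨by norm_num⟩
  obtain ⟨x, hx⟩ := exists_prime_orderOf_dvd_card' (G := Spor.Fi23) 23 (by rw [hn']; norm_num)
  have h23 : Nat.card (zpowers x) = 23 := by rw [Nat.card_zpowers, hx]
  have h1 := (Cfsg.Agent.H839.Fi23.twentythree_main (zpowers x) h23).2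
  have h2 : Nat.card (centralizer ({x} : Set Spor.Fi23)) ≤ 23 := by
    rw [← centralizer_zpowers, h1, h23]
  exact Row.of_card (p := 23) (c := 23) hn' (by norm_num) (by norm_num) S2054.result (by norm_num) (by norm_num)
    (by norm_num) (by norm_num) (by norm_num) (by norm_num) (by norm_num) x h2 (by norm_num)

theorem row_fi24 {K : Type u} [Group K] [IsSimpleGroup K] (h : Spor.IsoFi24' K) : Row K := by
  have hn := NotCT.Orders.fi24 h
  obtain ⟨e⟩ := h
  have hs : IsSimpleGroup Spor.Fi24' := e.symm.isSimpleGroup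
  refine Row.congr ?_ e.symm
  have hn' : Nat.card Spor.Fi24' = 1255205709190661721292800 := by rw [← hn, Nat.card_congr e.toEquiv]
  have hfin : Finite Spor.Fi24' := Nat.finite_of_card_ne_zero (by rw [hn']; norm_num)
  have hfin' : Finite Spor.Fi24 := Cfsg.Agent.R08.FiTwentyFour.finite_Fi24
  have : Fact (Nat.Prime 29) := ⟨by norm_num⟩
  obtain ⟨x, hx⟩ := exists_prime_orderOf_dvd_card' (G := Spor.Fi24') 29 (by rw [hn']; norm_num)
  have h2 : Nat.card (centralizer ({x} : Set Spor.Fi24')) ≤ 29 := by
    have hinj : Function.Injective (commutator Spor.Fi24).subtype := Subgroup.subtype_injective _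
    refine (card_cent_le_of_inj _ hinj x).trans ?_
    rw [card_cent_of_once (p := 29) (by norm_num) (by rw [H843.Fi24N.card_Fi24]; norm_num)
      (y := H843.D29.D.x) (by rw [orderOf_injective _ hinj, hx]) H843.D29.order, ← centralizer_zpowers,
      H843.D29.main.2]
  exact Row.of_card (p := 29) (c := 29) hn' (by norm_num) (by norm_num) S2055.result (by norm_num) (by norm_num)
    (by norm_num) (by norm_num) (by norm_num) (by norm_num) (by norm_num) x h2 (by norm_num)

end Cfsg.Agent.H253.TC
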