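import Cfsg.Agent.H253.TwoComm.SporTool
import Cfsg.Agent.H547.SelfCent.McLHS
import Cfsg.Agent.H547.SelfCent.Tits
import Cfsg.Agent.H393.Iso.HS
import Cfsg.Agent.H393.Iso.TitsJ4
import Cfsg.Agent.S2046
import Cfsg.Agent.S2115
import Cfsg.Agent.NotCT.Orders

/-!
# The Higman-Sims group and the Tits group (S2494, helper253)
-/

set_option autoImplicit false

namespace Cfsg.Agent.H253.TC

open Cfsg Subgroup

universe u

theorem row_hs {K : Type u} [Group K] [IsSimpleGroup K] (h : Spor.IsoHS K) : Row K := by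
  have hn := NotCT.Orders.hs h
  obtain ⟨e⟩ := h
  have hs : IsSimpleGroup Spor.HS := e.symm.isSimpleGroup
  refine Row.congr ?_ e.symm
  have hn' : Nat.card Spor.HS = 44352000 := by rw [← hn, Nat.card_congr e.toEquiv]
  have hfin : Finite Spor.HS := Nat.finite_of_card_ne_zero (by rw [hn']; norm_num)
  have : Fact (Nat.Prime 11) := ⟨by norm_num⟩
  obtain ⟨x, hx⟩ := exists_prime_orderOf_dvd_card' (G := Spor.HS) 11 (by rw [hn']; norm_num)
  exact Row.of_card (p := 11) (c := 11) hn' (by norm_num) (by norm_num) S2046.result (by norm_num) (by norm_num)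
    (by norm_num) (by norm_num) (by norm_num) (by norm_num) (by norm_num) x
    (Cfsg.Agent.H547.SelfCent.McLHS.hs ⟨MulEquiv.refl _⟩ (Cfsg.Agent.H393.Iso.na_hs ⟨MulEquiv.refl _⟩) hn' hx).le
    (by norm_num)

/-- the row of a simple group isomorphic to a model with known Schur multiplier -/
theorem Row.of_card_equiv {K : Type u} [Group K] [IsSimpleGroup K] {M : Type*} [Group M] (e : K ≃* M) {n μ : ℕ}
    (hn : Nat.card K = n) (h0 : n ≠ 0) (hμ : 0 < μ) (hA : Cfsg.HasCyclicSchurMultiplier M μ) {p : ℕ}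
    (hp : p.Prime) (hp2 : p ≠ 2) (h1 : p ∣ n) (h2 : ¬ p ^ 2 ∣ n) (h3 : n ≠ p) (h4 : 2 * n ≠ p * (p ^ 2 - 1))
    (h5 : ¬ p ∣ μ) {c : ℕ} (m : K) (hc : Nat.card (centralizer ({m} : Set K)) ≤ c)
    (h : μ * c ≤ ((p + 1) / 2) ^ 2) : Row K := by
  have hs : IsSimpleGroup M := e.symm.isSimpleGroup
  refine Row.congr ?_ e.symm
  have hfin : Finite K := Nat.finite_of_card_ne_zero (by rw [hn]; exact h0)
  refine Row.of_card (K := M) (by rw [← hn, Nat.card_congr e.toEquiv]) h0 hμ hA hp hp2 h1 h2 h3 h4 h5 (e m)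
    ((card_cent_le_of_inj e.symm.toMonoidHom e.symm.injective (e m)).trans ?_) h
  have h6 : e.symm.toMonoidHom (e m) = m := e.symm_apply_apply m
  rw [h6]
  exact hc

/-- the same for a subgroup as a model -/
theorem Row.of_card_sub {K : Type u} [Group K] [IsSimpleGroup K] {G : Type*} [Group G] (T : Subgroup G) {n : ℕ}
    (hn : Nat.card K = n) (h0 : n ≠ 0) (e : Nonempty (K ≃* T)) (hA : Cfsg.HasCyclicSchurMultiplier T 1) {p : ℕ}
    (hp : p.Prime) (hp2 : p ≠ 2) (h1 : p ∣ n) (h2 : ¬ p ^ 2 ∣ n) (h3 : n ≠ p) (h4 : 2 * n ≠ p * (p ^ 2 - 1))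
    {c : ℕ} (m : K) (hc : Nat.card (centralizer ({m} : Set K)) ≤ c)
    (h : c ≤ ((p + 1) / 2) ^ 2) : Row K :=
  e.elim fun e => Row.of_card_equiv e hn h0 (by norm_num) hA hp hp2 h1 h2 h3 h4 hp.not_dvd_one m hc (by rwa [one_mul])

theorem row_tits {K : Type u} [Group K] [IsSimpleGroup K] (h : Lie.IsoTits K) : Row K := by
  have hn := NotCT.Orders.tits h
  have hfin : Finite K := Nat.finite_of_card_ne_zero (by rw [hn]; norm_num)
  have : Fact (Nat.Prime 13) := ⟨by norm_num⟩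
  obtain ⟨x, hx⟩ := exists_prime_orderOf_dvd_card' (G := K) 13 (by rw [hn]; norm_num)
  have hc := (Cfsg.Agent.H547.SelfCent.tits h inferInstance (Cfsg.Agent.H393.Iso.na_tits h) hx).le
  exact Row.of_card_sub _ hn (by norm_num) h S2115.result (p := 13) (c := 13) (by norm_num) (by norm_num)
    (by norm_num) (by norm_num) (by norm_num) (by norm_num) x hc (by norm_num)

end Cfsg.Agent.H253.TC
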