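import Cfsg.Agent.H253.TwoComm.SporTool
import Cfsg.Agent.H828.KillHe
import Cfsg.Agent.S2049
import Cfsg.Agent.NotCT.Orders

/-!
# The Held group (S2494, helper253)
-/

set_option autoImplicit false

namespace Cfsg.Agent.H253.TC

open Cfsg Subgroup

universe u

theorem row_he {K : Type u} [Group K] [IsSimpleGroup K] (h : Spor.IsoHe K) : Row K := by
  have hn := NotCT.Orders.he h
  obtain ⟨e⟩ := h
  have hs : IsSimpleGroup Spor.He := e.symm.isSimpleGroup
  refine Row.congr ?_ e.symm
  have hn' : Nat.card Spor.He = 4030387200 := by rw [← hn, Nat.card_congr e.toEquiv]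
  exact Row.of_card (p := 17) (c := 17) hn' (by norm_num) (by norm_num) S2049.result (by norm_num) (by norm_num)
    (by norm_num) (by norm_num) (by norm_num) (by norm_num) (by norm_num) _
    Cfsg.Agent.H828.KillHe.cent17.le (by norm_num)

end Cfsg.Agent.H253.TC
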