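import Cfsg.Agent.H253.TwoComm.SporTool
import Cfsg.Agent.OddHalf.Table.OutJ2
import Cfsg.Agent.S2040
import Cfsg.Agent.H729.PairTable
import Cfsg.Agent.NotCT.Orders

/-!
# The Hall-Janko group (S2494, helper253)
-/

set_option autoImplicit false

namespace Cfsg.Agent.H253.TC

open Cfsg Subgroup
open Cfsg.Agent.OddHalf.Table.OutJ2
universe u

theorem row_j2 {K : Type u} [Group K] [IsSimpleGroup K] (h : Spor.IsoJ2 K) : Row K := by
  have hn := NotCT.Orders.j2 h
  obtain ⟨e⟩ := h
  have hs : IsSimpleGroup Spor.J2 := e.symm.isSimpleGroup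
  refine Row.congr ?_ e.symm
  have hn' : Nat.card Spor.J2 = 604800 := by rw [← hn, Nat.card_congr e.toEquiv]
  obtain ⟨f⟩ := Cfsg.Agent.J2.HundredGens.J2_iso Cfsg.Agent.S1619.result.2.2.2
  let x' : Cfsg.Agent.SporadicA.J2Hundred.G := ⟨x, x_mem⟩
  have hx' : orderOf x' = 7 := by rw [Subgroup.orderOf_mk]; exact order_x
  have hx : orderOf (f.symm x') = 7 := by rw [MulEquiv.orderOf_eq, hx']
  refine Row.of_card (p := 7) (c := 7) hn' (by norm_num) (by norm_num) S2040.result (by norm_num) (by norm_num)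
    (by norm_num) (by norm_num) (by norm_num) (by norm_num) (by norm_num) (f.symm x')
    (card_le_of_pow hx (by norm_num) fun c hc => ?_) (by norm_num)
  have h1 := congrArg f hc
  rw [map_mul, map_mul, f.apply_symm_apply] at h1
  obtain ⟨i, hi⟩ := cent_x (f c).2 (congrArg Subtype.val h1)
  refine ⟨i, f.injective ?_⟩
  rw [map_pow, f.apply_symm_apply]
  exact Subtype.ext hi

end Cfsg.Agent.H253.TC
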