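import Cfsg.Agent.H253.TwoComm.SporTool
import Cfsg.Agent.H898.J3Cent
import Cfsg.Agent.S2041
import Cfsg.Agent.NotCT.Orders

/-!
# The third Janko group (S2494, helper253)
-/

set_option autoImplicit false

namespace Cfsg.Agent.H253.TC

open Cfsg Subgroup

universe u

theorem row_j3 {K : Type u} [Group K] [IsSimpleGroup K] (h : Spor.IsoJ3 K) : Row K := by
  have hn := NotCT.Orders.j3 h
  obtain ⟨F, i1, i2, ω, hF, hω, ⟨e⟩⟩ := h
  have hs : IsSimpleGroup (Spor.J3 F ω) := e.symm.isSimpleGroup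
  refine Row.congr ?_ e.symm
  have hn' : Nat.card (Spor.J3 F ω) = 50232960 := by rw [← hn, Nat.card_congr e.toEquiv]
  have hfin : Finite (Spor.J3 F ω) := Nat.finite_of_card_ne_zero (by rw [hn']; norm_num)
  have : Fact (Nat.Prime 19) := ⟨by norm_num⟩
  obtain ⟨x, hx⟩ := exists_prime_orderOf_dvd_card' (G := Spor.J3 F ω) 19 (by rw [hn']; norm_num)
  exact Row.of_card (p := 19) (c := 19) hn' (by norm_num) (by norm_num) (S2041.result hF ω hω) (by norm_num)
    (by norm_num) (by norm_num) (by norm_num) (by norm_num) (by norm_num) (by norm_num) x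
    (Cfsg.Agent.H898.J3Cent.card_nineteen ⟨F, i1, i2, ω, hF, hω, ⟨MulEquiv.refl _⟩⟩ hx).le (by norm_num)

end Cfsg.Agent.H253.TC
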