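import Cfsg.Agent.H253.TwoComm.SporTool
import Cfsg.Agent.H723.Spor.JFour
import Cfsg.Agent.S2042
import Cfsg.Agent.NotCT.Orders

/-!
# The fourth Janko group (S2494, helper253)
-/

set_option autoImplicit false

namespace Cfsg.Agent.H253.TC

open Cfsg Subgroup

universe u

theorem row_j4 {K : Type u} [Group K] [IsSimpleGroup K] (h : Spor.IsoJ4 K) : Row K := by
  have hn := NotCT.Orders.j4 h
  obtain ⟨e⟩ := h
  have hs : IsSimpleGroup Spor.J4 := e.symm.isSimpleGroup
  refine Row.congr ?_ e.symm
  have hn' : Nat.card Spor.J4 = 86775571046077562880 := by rw [← hn, Nat.card_congr e.toEquiv]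
  have hfin : Finite Spor.J4 := Nat.finite_of_card_ne_zero (by rw [hn']; norm_num)
  have : Fact (Nat.Prime 43) := ⟨by norm_num⟩
  obtain ⟨x, hx⟩ := exists_prime_orderOf_dvd_card' (G := Spor.J4) 43 (by rw [hn']; norm_num)
  exact Row.of_card (p := 43) (c := 43) hn' (by norm_num) (by norm_num) S2042.result (by norm_num) (by norm_num)
    (by norm_num) (by norm_num) (by norm_num) (by norm_num) (by norm_num) x
    (Cfsg.Agent.H723.Spor.JFour.cent_big (by norm_num) hx).le (by norm_num)

end Cfsg.Agent.H253.TC
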