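import Cfsg.Agent.H253.TwoComm.Cent
import Cfsg.Agent.H859.M24Eleven
import Cfsg.Agent.S2034
import Cfsg.Agent.S2035
import Cfsg.Agent.S2037
import Cfsg.Agent.S2038
import Cfsg.Agent.S2039
import Cfsg.Agent.H514.OrdJ1
import Cfsg.Agent.NotCT.Orders

/-!
# `M11`, `M12`, `M23`, `M24`, `J1` (S2494, helper253)
-/

set_option autoImplicit false

namespace Cfsg.Agent.H253.TC

open Cfsg Subgroup

universe u

theorem exists_cent_m24 {H : Subgroup (Equiv.Perm GolayPt)} (hH : H ≤ M24) (h : 11 ∣ Nat.card H) :
    ∃ m : H, Nat.card (centralizer ({m} : Set H)) ≤ 11 := by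
  have hfin : Finite M24 := Nat.finite_of_card_ne_zero (by rw [Cfsg.Agent.S0364.result]; norm_num)
  have : Fact (Nat.Prime 11) := ⟨by norm_num⟩
  have hinj : Function.Injective (Subgroup.inclusion hH) := Subgroup.inclusion_injective hH
  have : Finite H := Finite.of_injective _ hinj
  obtain ⟨x, hx⟩ := exists_prime_orderOf_dvd_card' (G := H) 11 h
  refine ⟨x, (card_cent_le_of_inj (Subgroup.inclusion hH) hinj x).trans ?_⟩
  rw [card_cent_of_once (p := 11) (by norm_num) (by rw [Cfsg.Agent.S0364.result]; norm_num)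
    (y := Cfsg.Agent.H859.M24Eleven.f) (by rw [orderOf_injective _ hinj, hx])
    Cfsg.Agent.H859.M24Eleven.orderOf_f, Cfsg.Agent.H859.M24Eleven.card_centralizer_f]

theorem row_m11 {K : Type u} [Group K] [IsSimpleGroup K] (h : Spor.IsoM11 K) : Row K := by
  have hn := NotCT.Orders.m11 h
  obtain ⟨e⟩ := h
  have hs : IsSimpleGroup Spor.M11 := e.symm.isSimpleGroup
  refine Row.congr ?_ e.symm
  have hn' : Nat.card Spor.M11 = 7920 := by rw [← hn, Nat.card_congr e.toEquiv]
  obtain ⟨m, hm⟩ := exists_cent_m24 (H := Spor.M11) (inf_le_left.trans inf_le_left) (by rw [hn']; norm_num)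
  exact Row.of_card (p := 11) hn' (by norm_num) (by norm_num) S2034.result (by norm_num) (by norm_num)
    (by norm_num) (by norm_num) (by norm_num) (by norm_num) (by norm_num) m hm (by norm_num)

theorem row_m12 {K : Type u} [Group K] [IsSimpleGroup K] (h : Spor.IsoM12 K) : Row K := by
  have hn := NotCT.Orders.m12 h
  obtain ⟨e⟩ := h
  have hs : IsSimpleGroup Spor.M12 := e.symm.isSimpleGroup
  refine Row.congr ?_ e.symm
  have hn' : Nat.card Spor.M12 = 95040 := by rw [← hn, Nat.card_congr e.toEquiv]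
  obtain ⟨m, hm⟩ := exists_cent_m24 (H := Spor.M12) inf_le_left (by rw [hn']; norm_num)
  exact Row.of_card (p := 11) hn' (by norm_num) (by norm_num) S2035.result (by norm_num) (by norm_num)
    (by norm_num) (by norm_num) (by norm_num) (by norm_num) (by norm_num) m hm (by norm_num)

theorem row_m23 {K : Type u} [Group K] [IsSimpleGroup K] (h : Spor.IsoM23 K) : Row K := by
  have hn := NotCT.Orders.m23 h
  obtain ⟨e⟩ := h
  have hs : IsSimpleGroup Spor.M23 := e.symm.isSimpleGroup
  refine Row.congr ?_ e.symm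
  have hn' : Nat.card Spor.M23 = 10200960 := by rw [← hn, Nat.card_congr e.toEquiv]
  obtain ⟨m, hm⟩ := exists_cent_m24 (H := Spor.M23) inf_le_left (by rw [hn']; norm_num)
  exact Row.of_card (p := 23) hn' (by norm_num) (by norm_num) S2037.result (by norm_num) (by norm_num)
    (by norm_num) (by norm_num) (by norm_num) (by norm_num) (by norm_num) m hm (by norm_num)

theorem row_m24 {K : Type u} [Group K] [IsSimpleGroup K] (h : Spor.IsoM24 K) : Row K := by
  have hn := NotCT.Orders.m24 h
  obtain ⟨e⟩ := h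
  have hs : IsSimpleGroup M24 := e.symm.isSimpleGroup
  refine Row.congr ?_ e.symm
  have hn' : Nat.card M24 = 244823040 := by rw [← hn, Nat.card_congr e.toEquiv]
  obtain ⟨m, hm⟩ := exists_cent_m24 (H := M24) le_rfl (by rw [hn']; norm_num)
  exact Row.of_card (p := 23) hn' (by norm_num) (by norm_num) S2038.result (by norm_num) (by norm_num)
    (by norm_num) (by norm_num) (by norm_num) (by norm_num) (by norm_num) m hm (by norm_num)

theorem row_j1 {K : Type u} [Group K] [IsSimpleGroup K] (h : Spor.IsoJ1 K) : Row K := by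
  have hn := NotCT.Orders.j1 h
  obtain ⟨e⟩ := h
  have hs : IsSimpleGroup Spor.J1 := e.symm.isSimpleGroup
  refine Row.congr ?_ e.symm
  have hn' : Nat.card Spor.J1 = 175560 := by rw [← hn, Nat.card_congr e.toEquiv]
  have hfin : Finite Spor.J1 := Nat.finite_of_card_ne_zero (by rw [hn']; norm_num)
  have : Fact (Nat.Prime 5) := ⟨by norm_num⟩
  obtain ⟨x, hx⟩ := exists_prime_orderOf_dvd_card' (G := Spor.J1) 5 (by rw [hn']; norm_num)
  exact Row.of_card (p := 19) (c := 30) hn' (by norm_num) (by norm_num) S2039.result (by norm_num) (by norm_num)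
    (by norm_num) (by norm_num) (by norm_num) (by norm_num) (by norm_num) x
    (Cfsg.Agent.H514.OC.J1.card_cent_five hx).le (by norm_num)

end Cfsg.Agent.H253.TC
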