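import Cfsg.Agent.H253.TwoComm.SporTool
import Cfsg.Agent.OddHalf.Table.OutRu
import Cfsg.Agent.S2051
import Cfsg.Agent.NotCT.Orders

/-!
# The Rudvalis group (S2494, helper253)
-/

set_option autoImplicit false

namespace Cfsg.Agent.H253.TC

open Cfsg Subgroup
open Cfsg.Agent.OddHalf.Table.OutRu

universe u

theorem row_ru {K : Type u} [Group K] [IsSimpleGroup K] (h : Spor.IsoRu K) : Row K := by
  have hn := NotCT.Orders.ru h
  obtain ⟨e⟩ := h
  have hs : IsSimpleGroup Spor.Ru := e.symm.isSimpleGroup
  refine Row.congr ?_ e.symm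
  have hn' : Nat.card Spor.Ru = 145926144000 := by rw [← hn, Nat.card_congr e.toEquiv]
  let f := RuLat.Main.equiv
  have hx : orderOf (f.symm x) = 29 := by rw [MulEquiv.orderOf_eq, orderOf_x]
  refine Row.of_card (p := 29) (c := 29) hn' (by norm_num) (by norm_num) S2051.result (by norm_num) (by norm_num)
    (by norm_num) (by norm_num) (by norm_num) (by norm_num) (by norm_num) (f.symm x)
    (card_le_of_pow hx (by norm_num) fun c hc => ?_) (by norm_num)
  obtain ⟨i, hi⟩ := cent_x' (f c) (by
    have h1 := congrArg f hc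
    rw [map_mul, map_mul, f.apply_symm_apply] at h1
    exact h1)
  refine ⟨i, f.injective ?_⟩
  rw [hi, map_pow, f.apply_symm_apply]

end Cfsg.Agent.H253.TC
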