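import Cfsg.Agent.H253.TwoComm.RowSuz
import Cfsg.Agent.H253.TwoComm.RowJ2
import Cfsg.Agent.H253.TwoComm.RowJ3
import Cfsg.Agent.H253.TwoComm.RowHe
import Cfsg.Agent.H253.TwoComm.RowJ4
import Cfsg.Agent.H253.TwoComm.RowCo1
import Cfsg.Agent.H253.TwoComm.RowCo23
import Cfsg.Agent.H253.TwoComm.RowMT
import Cfsg.Agent.H253.TwoComm.RowRu
import Cfsg.Agent.H253.TwoComm.RowMathieu
import Cfsg.Agent.H253.TwoComm.RowM22
import Cfsg.Agent.H253.TwoComm.RowHSTits
import Cfsg.Agent.H253.TwoComm.RowFi
import Cfsg.Agent.H253.TwoComm.RowBM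

/-!
# The sporadic groups (S2494, helper253)

`row_spor_of` : from the rows of `HN`, `O'N`, `Th` all sporadic rows.
-/

set_option autoImplicit false

namespace Cfsg.Agent.H253.TC

open Cfsg

universe u

theorem row_spor_of {K : Type u} [Group K] [IsSimpleGroup K] (hHN : Spor.IsoHN K → Row K)
    (hON : Spor.IsoON K → Row K) (hTh : Spor.IsoTh K → Row K) (h : IsSporadicGroup K) : Row K := by
  unfold IsSporadicGroup at h
  rcases h with h | h | h | h | h | h | h | h | h | h | h | h | h | h | h | h | h | h | h | h | h | h | h | h | h | h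
  · exact row_m11 h
  · exact row_m12 h
  · exact row_m22 h
  · exact row_m23 h
  · exact row_m24 h
  · exact row_j1 h
  · exact row_j2 h
  · exact row_j3 h
  · exact row_j4 h
  · exact row_co1 h
  · exact row_co2 h
  · exact row_co3 h
  · exact row_mcl h
  · exact row_hs h
  · exact row_suz h
  · exact row_he h
  · exact row_ru h
  · exact hON h
  · exact row_ly h
  · exact row_fi22 h
  · exact row_fi23 h
  · exact row_fi24 h
  · exact hHN h
  · exact hTh h
  · exact row_b h
  · exact row_m h

end Cfsg.Agent.H253.TC
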