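import Cfsg.Agent.H253.TwoComm.RowSpor
import Cfsg.Agent.H951.TCRowHN
import Cfsg.Agent.H951.TCRowON
import Cfsg.Agent.H951.TCRowTh

/-!
# All sporadic groups (S2494, helper253)
-/

set_option autoImplicit false

namespace Cfsg.Agent.H253.TC

open Cfsg

universe u

/-- **The sporadic rows of S2494.** -/
theorem row_spor {K : Type u} [Group K] [IsSimpleGroup K] (h : IsSporadicGroup K) : Row K :=
  row_spor_of H951.TCRowHN.row H951.TCRowON.row H951.TCRowTh.row h

end Cfsg.Agent.H253.TC
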