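import Cfsg.Agent.H253.TwoComm.SporTool
import Cfsg.Agent.OddHalf.Table.OutSuz
import Cfsg.Agent.S2048
import Cfsg.Agent.NotCT.Orders

/-!
# The Suzuki group (S2494, helper253)
-/

set_option autoImplicit false

namespace Cfsg.Agent.H253.TC

open Cfsg Subgroup
open Cfsg.Agent.OddHalf.Table.OutSuz Cfsg.Agent.OddHalf.Table.SuzRep
universe u

theorem isConj_pow_two_pow {G : Type*} [Group G] {f x : G} (h : f * x * f⁻¹ = x ^ 2) (n : ℕ) : IsConj x (x ^ 2 ^ n) := by
  induction n with
  | zero => rw [pow_zero, pow_one]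
  | succ n ih =>
    refine ih.trans (isConj_iff.2 ⟨f, ?_⟩)
    rw [← conj_pow, h, ← pow_mul]
    congr 1
    ring

theorem pd_suz [IsSimpleGroup Spor.Suz] [Finite Spor.Suz] : PD Spor.Suz 10 := by
  have key := PD.of_pow (K := Spor.Suz) (p := 11) (by norm_num) (fun L _ _ π hπ => not_dvd_ker S2048.result (p := 11) (by
    rw [Nat.card_congr Multiplicative.toAdd, Nat.card_zmod]; norm_num) L π hπ) order_x
    ((Finset.range 10).image fun j => j + 1) (by
      intro j hj
      rw [Finset.mem_image] at hj
      obtain ⟨i, hi, rfl⟩ := hj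
      rw [Finset.mem_range] at hi
      omega) (by
      intro j hj
      rw [Finset.mem_image] at hj
      obtain ⟨i, hi, rfl⟩ := hj
      rw [Finset.mem_range] at hi
      have h1 : ∀ i < 10, ∃ n < 10, 2 ^ n % 11 = i + 1 := by decide
      obtain ⟨n, -, hn⟩ := h1 i hi
      rw [← hn, ← order_x, pow_mod_orderOf]
      exact isConj_pow_two_pow fx n)
  have h : ((Finset.range 10).image fun j => j + 1).card = 10 := by decide
  rwa [h] at key

theorem row_suz {K : Type u} [Group K] [IsSimpleGroup K] (h : Spor.IsoSuz K) : Row K := by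
  have hn := NotCT.Orders.suz h
  obtain ⟨e⟩ := h
  have hs : IsSimpleGroup Spor.Suz := e.symm.isSimpleGroup
  refine Row.congr ?_ e.symm
  have hn' : Nat.card Spor.Suz = 448345497600 := by rw [← hn, Nat.card_congr e.toEquiv]
  have hfin : Finite Spor.Suz := Nat.finite_of_card_ne_zero (by rw [hn']; norm_num)
  exact Row.of_pd hn' (by norm_num) (by norm_num) S2048.result pd_suz (by norm_num) x
    (card_le_of_pow order_x (by norm_num) cent_x) (by norm_num)

end Cfsg.Agent.H253.TC
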