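import Cfsg.Agent.H253.TwoComm.Base
import Cfsg.Agent.Characters.Counting
import Cfsg.Agent.Characters.Values
import Cfsg.Agent.H686.CharKit

/-!
# Products of two commutators: the character sum (S2494, helper253)

* `twoComm_of_sum` : if `∑ |χ(m)|² / χ(1)² < 1` over the nontrivial irreducible characters, then every element of `G` is a
  product of two commutators;
* `twoComm_of_centralizer` : if `|C_G(m)| ≤ d²` and the nontrivial irreducible characters have degree at least `d`.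
-/

set_option autoImplicit false

namespace Cfsg.Agent.H253.TC

open Cfsg Subgroup
open Cfsg.Agent.Characters.Core Cfsg.Agent.Characters.Central Cfsg.Agent.Characters.Counting
open scoped ComplexConjugate

universe u

variable {G : Type u} [Group G] [Finite G]

theorem norm_le_one {χ : G → ℂ} (hχ : IsIrrCharacter G χ) (g : G) : ‖χ g‖ ≤ ‖χ 1‖ := by
  obtain ⟨n, ρ, hρ, rfl⟩ := hχ
  have h := Cfsg.Agent.Characters.Values.norm_character_le ρ g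
  rw [Representation.char_one, Complex.norm_natCast]
  exact h

/-- the count, in vanishing form -/
theorem sum_eq_zero [Fintype (IrrCharacter G)] (m h : G)
    (hne : ∀ z x a b : G, a * b * a⁻¹ * b⁻¹ * (x * m * x⁻¹ * (z * m⁻¹ * z⁻¹ * h)) ≠ 1) :
    ∑ χ : IrrCharacter G, (χ : G → ℂ) m * (χ : G → ℂ) m⁻¹ * (χ : G → ℂ) h / (χ : G → ℂ) 1 ^ 3 = 0 := by
  classical
  have := Fintype.ofFinite G
  have hcard : (Nat.card G : ℂ) ≠ 0 := by exact_mod_cast Nat.card_pos.ne'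
  have e0 : ∑ t : G × G × G × G, ∑ χ : IrrCharacter G, (χ : G → ℂ) 1 *
      (χ : G → ℂ) (t.2.2.1 * t.2.2.2 * t.2.2.1⁻¹ * t.2.2.2⁻¹ * (t.2.1 * m * t.2.1⁻¹ * (t.1 * m⁻¹ * t.1⁻¹ * h))) = 0 := by
    refine Finset.sum_eq_zero fun t _ => ?_
    rw [sum_irr_one_mul, if_neg (hne _ _ _ _)]
  rw [Finset.sum_comm] at e0
  have e2 : ∀ χ : IrrCharacter G, ∑ t : G × G × G × G, (χ : G → ℂ) 1 *
      (χ : G → ℂ) (t.2.2.1 * t.2.2.2 * t.2.2.1⁻¹ * t.2.2.2⁻¹ * (t.2.1 * m * t.2.1⁻¹ * (t.1 * m⁻¹ * t.1⁻¹ * h))) =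
      (Nat.card G : ℂ) ^ 4 * ((χ : G → ℂ) m * (χ : G → ℂ) m⁻¹ * (χ : G → ℂ) h / (χ : G → ℂ) 1 ^ 3) := by
    intro χ
    have h1 := irr_one_ne_zero χ.2
    rw [← Finset.mul_sum]
    simp only [Fintype.sum_prod_type]
    simp only [sum_char_commutator_mul χ.2]
    have e3 : ∀ z : G, ∑ x : G, (Nat.card G : ℂ) ^ 2 * (χ : G → ℂ) (x * m * x⁻¹ * (z * m⁻¹ * z⁻¹ * h)) /
        (χ : G → ℂ) 1 ^ 2 = (Nat.card G : ℂ) ^ 2 / (χ : G → ℂ) 1 ^ 2 *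
        ((Nat.card G : ℂ) * (χ : G → ℂ) m * (χ : G → ℂ) (z * m⁻¹ * z⁻¹ * h) / (χ : G → ℂ) 1) := by
      intro z
      rw [← sum_char_conj_mul χ.2, Finset.mul_sum]
      exact Finset.sum_congr rfl fun x _ => by ring
    simp only [e3]
    have e4 : ∑ z : G, (Nat.card G : ℂ) ^ 2 / (χ : G → ℂ) 1 ^ 2 *
        ((Nat.card G : ℂ) * (χ : G → ℂ) m * (χ : G → ℂ) (z * m⁻¹ * z⁻¹ * h) / (χ : G → ℂ) 1) =
        (Nat.card G : ℂ) ^ 3 * (χ : G → ℂ) m / (χ : G → ℂ) 1 ^ 3 *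
          ((Nat.card G : ℂ) * (χ : G → ℂ) m⁻¹ * (χ : G → ℂ) h / (χ : G → ℂ) 1) := by
      rw [← sum_char_conj_mul χ.2, Finset.mul_sum]
      refine Finset.sum_congr rfl fun z _ => ?_
      field_simp
    rw [e4]
    field_simp
  rw [Finset.sum_congr rfl fun χ _ => e2 χ, ← Finset.mul_sum] at e0
  exact (mul_eq_zero.mp e0).resolve_left (pow_ne_zero 4 hcard)

/-- the trivial character -/
def oneChar (G : Type u) [Group G] : IrrCharacter G := ⟨1, isIrr_one⟩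

/-- **The character sum criterion.** -/
theorem twoComm_of_sum [Fintype (IrrCharacter G)] [DecidableEq (IrrCharacter G)] (m : G)
    (h : ∑ χ ∈ Finset.univ.erase (oneChar G), ‖(χ : G → ℂ) m‖ ^ 2 / ‖(χ : G → ℂ) 1‖ ^ 2 < (1 : ℝ)) : TwoComm G := by
  intro g
  by_contra hcon
  push Not at hcon
  have hz := sum_eq_zero m g⁻¹ (fun z x a b h0 => hcon a b (x * m * x⁻¹) (z * x⁻¹) (by
    rw [← mul_inv_eq_one, ← h0]
    group))
  rw [← Finset.add_sum_erase _ _ (Finset.mem_univ (oneChar G))] at hz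
  have h1 : ((oneChar G : IrrCharacter G) : G → ℂ) m * ((oneChar G : IrrCharacter G) : G → ℂ) m⁻¹ *
      ((oneChar G : IrrCharacter G) : G → ℂ) g⁻¹ / ((oneChar G : IrrCharacter G) : G → ℂ) 1 ^ 3 = 1 := by
    simp [oneChar]
  rw [h1] at hz
  have h2 : ‖∑ χ ∈ Finset.univ.erase (oneChar G),
      (χ : G → ℂ) m * (χ : G → ℂ) m⁻¹ * (χ : G → ℂ) g⁻¹ / (χ : G → ℂ) 1 ^ 3‖ = 1 := by
    have : ∑ χ ∈ Finset.univ.erase (oneChar G),
      (χ : G → ℂ) m * (χ : G → ℂ) m⁻¹ * (χ : G → ℂ) g⁻¹ / (χ : G → ℂ) 1 ^ 3 = -1 := by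
      linear_combination hz
    rw [this]; simp
  have h3 : ‖∑ χ ∈ Finset.univ.erase (oneChar G),
      (χ : G → ℂ) m * (χ : G → ℂ) m⁻¹ * (χ : G → ℂ) g⁻¹ / (χ : G → ℂ) 1 ^ 3‖ ≤
      ∑ χ ∈ Finset.univ.erase (oneChar G), ‖(χ : G → ℂ) m‖ ^ 2 / ‖(χ : G → ℂ) 1‖ ^ 2 := by
    refine (norm_sum_le _ _).trans (Finset.sum_le_sum fun χ _ => ?_)
    have hpos : 0 < ‖(χ : G → ℂ) 1‖ := norm_pos_iff.mpr (irr_one_ne_zero χ.2)
    have hinv : ‖(χ : G → ℂ) m⁻¹‖ = ‖(χ : G → ℂ) m‖ := by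
      rw [isCharacter_apply_inv (isIrr_isCharacter χ.2), RCLike.norm_conj]
    rw [norm_div, norm_pow, norm_mul, norm_mul, hinv, div_le_div_iff₀ (by positivity) (by positivity)]
    have h4 := norm_le_one χ.2 g⁻¹
    have h5 : 0 ≤ ‖(χ : G → ℂ) m‖ ^ 2 := by positivity
    calc ‖(χ : G → ℂ) m‖ * ‖(χ : G → ℂ) m‖ * ‖(χ : G → ℂ) g⁻¹‖ * ‖(χ : G → ℂ) 1‖ ^ 2
        = ‖(χ : G → ℂ) m‖ ^ 2 * (‖(χ : G → ℂ) g⁻¹‖ * ‖(χ : G → ℂ) 1‖ ^ 2) := by ring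
      _ ≤ ‖(χ : G → ℂ) m‖ ^ 2 * (‖(χ : G → ℂ) 1‖ * ‖(χ : G → ℂ) 1‖ ^ 2) := by gcongr
      _ = ‖(χ : G → ℂ) m‖ ^ 2 * ‖(χ : G → ℂ) 1‖ ^ 3 := by ring
  linarith

/-- the sum of the `|χ(m)|²` over the nontrivial irreducible characters -/
theorem sum_erase_norm_sq [Fintype (IrrCharacter G)] [DecidableEq (IrrCharacter G)] (m : G) :
    ∑ χ ∈ Finset.univ.erase (oneChar G), ‖(χ : G → ℂ) m‖ ^ 2 = (Nat.card (centralizer ({m} : Set G)) : ℝ) - 1 := by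
  have h := Cfsg.Agent.H686.CharKit.sum_normSq (G := G) m
  rw [← Finset.add_sum_erase _ _ (Finset.mem_univ (oneChar G))] at h
  have h1 : Complex.normSq (((oneChar G : IrrCharacter G) : G → ℂ) m) = 1 := by simp [oneChar]
  rw [h1] at h
  have h2 : ∑ χ ∈ Finset.univ.erase (oneChar G), ‖(χ : G → ℂ) m‖ ^ 2 =
      ∑ χ ∈ Finset.univ.erase (oneChar G), Complex.normSq ((χ : G → ℂ) m) :=
    Finset.sum_congr rfl fun χ _ => (Complex.normSq_eq_norm_sq _).symm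
  rw [h2]
  linarith

/-- **LEMMA A.** -/
theorem twoComm_of_centralizer (m : G) {d : ℕ} (hd : 0 < d)
    (hdeg : ∀ χ : G → ℂ, IsIrrCharacter G χ → χ ≠ 1 → (d : ℝ) ≤ ‖χ 1‖)
    (hc : Nat.card (centralizer ({m} : Set G)) ≤ d ^ 2) : TwoComm G := by
  classical
  have : Finite (IrrCharacter G) := finite_irr
  have := Fintype.ofFinite (IrrCharacter G)
  refine twoComm_of_sum m ?_
  have hd' : (0 : ℝ) < d := by exact_mod_cast hd
  have h1 : ∑ χ ∈ Finset.univ.erase (oneChar G), ‖(χ : G → ℂ) m‖ ^ 2 / ‖(χ : G → ℂ) 1‖ ^ 2 ≤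
      ∑ χ ∈ Finset.univ.erase (oneChar G), ‖(χ : G → ℂ) m‖ ^ 2 / (d : ℝ) ^ 2 := by
    refine Finset.sum_le_sum fun χ hχ => ?_
    have h2 : (d : ℝ) ≤ ‖(χ : G → ℂ) 1‖ := hdeg _ χ.2 fun h => (Finset.mem_erase.1 hχ).1 (Subtype.ext h)
    gcongr
  refine h1.trans_lt ?_
  rw [← Finset.sum_div, sum_erase_norm_sq, div_lt_one (by positivity)]
  have h3 : (Nat.card (centralizer ({m} : Set G)) : ℝ) ≤ (d : ℝ) ^ 2 := by exact_mod_cast hc
  linarith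

end Cfsg.Agent.H253.TC
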